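import Mathlib
import Cfsg.Agent.Coprime.Conj
import Cfsg.Agent.Lib.MinimalNormal
import Cfsg.Agent.Signalizer.PAction

/-!
# Conjugation-invariant sets of subgroups of order `p`, any two generating an `r`-by-`p` group
-/

set_option autoImplicit false
set_option linter.style.haveILetI false

namespace Cfsg.Agent.H73.Fis

open Subgroup
open scoped Pointwise

universe u v

variable {G : Type u} [Group G] {H : Type v} [Group H]

/-- Conjugate subgroup. -/
def cj (g : G) (A : Subgroup G) : Subgroup G := A.map (MulAut.conj g).toMonoidHom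

theorem mem_cj {g x : G} {A : Subgroup G} : x ∈ cj g A ↔ g⁻¹ * x * g ∈ A := by
  simp only [cj, Subgroup.mem_map, MulEquiv.coe_toMonoidHom, MulAut.conj_apply]
  constructor
  · rintro ⟨a, ha, rfl⟩
    simpa [mul_assoc] using ha
  · intro h; exact ⟨_, h, by group⟩

theorem conj_mem_cj {g x : G} {A : Subgroup G} (h : x ∈ A) : g * x * g⁻¹ ∈ cj g A :=
  mem_cj.2 (by simpa [mul_assoc] using h)

theorem cj_cj (g k : G) (A : Subgroup G) : cj g (cj k A) = cj (g * k) A := by
  ext x; simp only [mem_cj, mul_inv_rev, mul_assoc]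

theorem cj_one (A : Subgroup G) : cj 1 A = A := by ext x; simp [mem_cj]

theorem cj_mono {g : G} {A B : Subgroup G} (h : A ≤ B) : cj g A ≤ cj g B := Subgroup.map_mono h

theorem cj_eq_smul (g : G) (A : Subgroup G) :
    cj g A = ((MulAut.conj g) • A : Subgroup G) := by
  ext x
  rw [mem_cj, Subgroup.mem_pointwise_smul_iff_inv_smul_mem]
  simp [MulAut.smul_def]

theorem card_cj (g : G) (A : Subgroup G) : Nat.card (cj g A) = Nat.card A :=
  (Nat.card_congr (Subgroup.equivMapOfInjective A _ (MulEquiv.injective _)).toEquiv).symm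

theorem cj_eq_of_normalizer {g : G} {A : Subgroup G} (hg : g ∈ normalizer (A : Set G)) :
    cj g A = A := by
  ext x
  rw [mem_cj]
  rw [Subgroup.mem_normalizer_iff''] at hg
  exact (hg x).symm

theorem mem_normalizer_of_cj {g : G} {A : Subgroup G} (h : cj g A = A) :
    g ∈ normalizer (A : Set G) := by
  rw [Subgroup.mem_normalizer_iff'']
  intro x
  conv_lhs => rw [← h, mem_cj]

theorem cj_le_of_mem {g : G} {A K : Subgroup G} (hA : A ≤ K) (hg : g ∈ K) : cj g A ≤ K := by
  intro x hx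
  have := hA (mem_cj.1 hx)
  have h2 := K.mul_mem (K.mul_mem hg this) (K.inv_mem hg)
  simpa [mul_assoc] using h2

theorem cj_map (f : G →* H) (g : G) (A : Subgroup G) : (cj g A).map f = cj (f g) (A.map f) := by
  rw [cj, cj, Subgroup.map_map, Subgroup.map_map]
  congr 1
  ext x; simp

/-- The members of `D` inside `K`. -/
def pts (D : Set (Subgroup G)) (K : Subgroup G) : Set (Subgroup G) := {A | A ∈ D ∧ A ≤ K}

/-- `K` is generated by members of `D`. -/
def IsSub (D : Set (Subgroup G)) (K : Subgroup G) : Prop := sSup (pts D K) = K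

/-- `r`-elements. -/
def IsR (r : ℕ) (x : G) : Prop := ∃ k, x ^ r ^ k = 1

/-- The subgroup generated by the `r`-elements of `K`. -/
def Rd (r : ℕ) (K : Subgroup G) : Subgroup G := closure {x | x ∈ K ∧ IsR r x}

theorem IsR.map {r : ℕ} {x : G} (h : IsR r x) (f : G →* H) : IsR r (f x) := by
  obtain ⟨k, hk⟩ := h
  exact ⟨k, by rw [← map_pow, hk, map_one]⟩

theorem IsR.conj {r : ℕ} {x : G} (h : IsR r x) (g : G) : IsR r (g * x * g⁻¹) :=
  h.map (MulAut.conj g).toMonoidHom

theorem isR_of_pgroup {r : ℕ} {P : Subgroup G} (hP : IsPGroup r P) {x : G} (hx : x ∈ P) :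
    IsR r x := by
  obtain ⟨k, hk⟩ := hP ⟨x, hx⟩
  exact ⟨k, congrArg Subtype.val hk⟩

theorem rd_le (r : ℕ) (K : Subgroup G) : Rd r K ≤ K := (closure_le K).2 fun _ h => h.1

theorem cj_rd (r : ℕ) (g : G) (K : Subgroup G) : cj g (Rd r K) = Rd r (cj g K) := by
  rw [Rd, Rd, cj, MonoidHom.map_closure]
  congr 1
  ext y
  simp only [Set.mem_image, Set.mem_setOf_eq, MulEquiv.coe_toMonoidHom, MulAut.conj_apply, mem_cj]
  constructor
  · rintro ⟨x, ⟨hx, hr⟩, rfl⟩
    exact ⟨by simpa [mul_assoc] using hx, hr.conj g⟩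
  · rintro ⟨hx, hr⟩
    refine ⟨_, ⟨hx, ?_⟩, by group⟩
    simpa using hr.conj g⁻¹

/-- The line axioms. -/
structure Base (p r : ℕ) (D : Set (Subgroup G)) : Prop where
  hp : p.Prime
  hr : r.Prime
  hp2 : p ≠ 2
  hr2 : r ≠ 2
  hpr : p ≠ r
  card : ∀ A ∈ D, Nat.card A = p
  inv : ∀ A ∈ D, ∀ g : G, cj g A ∈ D
  gen : sSup D = ⊤
  line : ∀ A ∈ D, ∀ B ∈ D, A ≠ B → ∃ R : Subgroup G, IsPGroup r R ∧ R ≤ A ⊔ B ∧
    A ⊔ B ≤ normalizer (R : Set G) ∧ R ⊔ A = A ⊔ B
  eq : ∀ A ∈ D, ∀ B ∈ D, ∀ C ∈ D, A ≠ B → C ≠ A → C ≤ A ⊔ B → A ⊔ C = A ⊔ B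

namespace Base

variable [Finite G] {p r : ℕ} {D : Set (Subgroup G)}

theorem coprime_card (h : Base p r D) {A R : Subgroup G} (hA : A ∈ D) (hR : IsPGroup r R) :
    (Nat.card A).Coprime (Nat.card R) := by
  haveI := Fact.mk h.hr
  obtain ⟨k, hk⟩ := hR.exists_card_eq
  rw [h.card A hA, hk]
  exact Nat.Coprime.pow_right _ ((Nat.coprime_primes h.hp h.hr).2 h.hpr)

theorem pgroup (h : Base p r D) {A : Subgroup G} (hA : A ∈ D) : IsPGroup p A :=
  IsPGroup.of_card (n := 1) (by rw [pow_one]; exact h.card A hA)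

theorem ne_bot (h : Base p r D) {A : Subgroup G} (hA : A ∈ D) : A ≠ ⊥ := fun hb => by
  have := h.card A hA
  rw [hb, Subgroup.card_bot] at this
  exact h.hp.ne_one this.symm

theorem exists_ne_one (h : Base p r D) {A : Subgroup G} (hA : A ∈ D) : ∃ a ∈ A, a ≠ 1 := by
  by_contra hc; push Not at hc
  exact h.ne_bot hA ((Subgroup.eq_bot_iff_forall _).2 hc)

theorem eq_zpowers (h : Base p r D) {A : Subgroup G} (hA : A ∈ D) {a : G} (ha : a ∈ A)
    (ha1 : a ≠ 1) : A = zpowers a := by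
  refine (Subgroup.eq_of_le_of_card_ge (zpowers_le.2 ha) ?_).symm
  rw [h.card A hA, Nat.card_zpowers]
  have h1 : orderOf a ∣ p := by
    rw [← h.card A hA, ← Nat.card_zpowers]; exact card_dvd_of_le (zpowers_le.2 ha)
  rcases h.hp.eq_one_or_self_of_dvd _ h1 with h2 | h2
  · exact absurd (orderOf_eq_one_iff.1 h2) ha1
  · omega

theorem le_of_mem (h : Base p r D) {A K : Subgroup G} (hA : A ∈ D) {a : G} (ha : a ∈ A)
    (ha1 : a ≠ 1) (hK : a ∈ K) : A ≤ K := by
  rw [h.eq_zpowers hA ha ha1]; exact zpowers_le.2 hK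

theorem eq_of_mem (h : Base p r D) {A B : Subgroup G} (hA : A ∈ D) (hB : B ∈ D) {a : G}
    (ha : a ∈ A) (ha1 : a ≠ 1) (hb : a ∈ B) : A = B := by
  rw [h.eq_zpowers hA ha ha1, h.eq_zpowers hB hb ha1]

theorem exists_sylow_conj (h : Base p r D) {A B R : Subgroup G} (hA : A ∈ D) (hR : IsPGroup r R)
    (hAR : A ≤ normalizer (R : Set G)) (hBc : Nat.card B = p) (hB : B ≤ R ⊔ A) :
    ∃ x ∈ R, B = cj x A := by
  haveI := Fact.mk h.hr
  have hc : (Nat.card B).Coprime (Nat.card R) := by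
    rw [hBc, ← h.card A hA]; exact h.coprime_card hA hR
  have hBR : B ≤ normalizer (R : Set G) := hB.trans (sup_le le_normalizer hAR)
  have hsup : B ⊔ R = A ⊔ R := by
    refine Subgroup.eq_of_le_of_card_ge (sup_le (hB.trans (le_of_eq (sup_comm _ _))) le_sup_right) ?_
    rw [Coprime.card_sup_of_coprime hBR hc,
      Coprime.card_sup_of_coprime hAR (h.coprime_card hA hR), hBc, h.card A hA]
  have hsol : Group.IsSolvable R := by
    haveI := hR.isNilpotent; infer_instance
  obtain ⟨x, hx, hxe⟩ := Coprime.complement_conj hAR (h.coprime_card hA hR) hc hsup (Or.inr hsol)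
  exact ⟨x, hx, hxe.trans (cj_eq_smul x A).symm⟩

theorem line_conj (h : Base p r D) {A B : Subgroup G} (hA : A ∈ D) (hB : B ∈ D) (hne : A ≠ B) :
    ∃ x ∈ A ⊔ B, IsR r x ∧ B = cj x A := by
  obtain ⟨R, hR, hRle, hn, hsup⟩ := h.line A hA B hB hne
  obtain ⟨x, hx, hxe⟩ := h.exists_sylow_conj hA hR (le_sup_left.trans hn) (h.card B hB)
    (hsup ▸ le_sup_right)
  exact ⟨x, hRle hx, isR_of_pgroup hR hx, hxe⟩

theorem conj_all (h : Base p r D) {A B : Subgroup G} (hA : A ∈ D) (hB : B ∈ D) :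
    ∃ x : G, B = cj x A := by
  rcases eq_or_ne A B with rfl | hne
  · exact ⟨1, (cj_one A).symm⟩
  · obtain ⟨x, -, -, hx⟩ := h.line_conj hA hB hne
    exact ⟨x, hx⟩

theorem eq_of_commute (h : Base p r D) {A B : Subgroup G} (hA : A ∈ D) (hB : B ∈ D) {a b : G}
    (ha : a ∈ A) (ha1 : a ≠ 1) (hb : b ∈ B) (hb1 : b ≠ 1) (hc : Commute a b) : A = B := by
  by_contra hne
  obtain ⟨x, hx, -, hxe⟩ := h.line_conj hA hB hne
  have h1 : A ⊔ B ≤ centralizer ({a} : Set G) := by
    rw [sup_le_iff, h.eq_zpowers hA ha ha1, h.eq_zpowers hB hb hb1, zpowers_le, zpowers_le,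
      mem_centralizer_singleton_iff, mem_centralizer_singleton_iff]
    exact ⟨rfl, hc.symm.eq⟩
  refine hne ((h.eq_of_mem hA hB ha ha1 ?_))
  rw [hxe, mem_cj]
  have h2 := mem_centralizer_singleton_iff.1 (h1 hx)
  have : x⁻¹ * a * x = a := by rw [mul_assoc, ← h2, inv_mul_cancel_left]
  rw [this]; exact ha

/-- Push forward along a surjection that is injective on each member. -/
theorem map [Finite H] (h : Base p r D) (f : G →* H) (hf : Function.Surjective f)
    (hinj : ∀ A ∈ D, ∀ a ∈ A, f a = 1 → a = 1) : Base p r ((Subgroup.map f) '' D) := by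
  refine ⟨h.hp, h.hr, h.hp2, h.hr2, h.hpr, ?_, ?_, ?_, ?_, ?_⟩
  · rintro _ ⟨A, hA, rfl⟩
    refine (Nat.card_congr (Equiv.ofBijective (fun a : A => (⟨f a, mem_map_of_mem f a.2⟩ : A.map f))
      ⟨fun a b hab => ?_, fun y => ?_⟩)).symm.trans (h.card A hA)
    · have h1 := congrArg Subtype.val hab
      refine Subtype.ext (inv_mul_eq_one.1 ?_)
      exact hinj A hA _ (A.mul_mem (A.inv_mem a.2) b.2) (by simp [show f a = f b from h1])
    · obtain ⟨a, ha, hay⟩ := y.2
      exact ⟨⟨a, ha⟩, Subtype.ext hay⟩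
  · rintro _ ⟨A, hA, rfl⟩ g
    obtain ⟨g, rfl⟩ := hf g
    exact ⟨cj g A, h.inv A hA g, cj_map f g A⟩
  · rw [sSup_image, ← (Subgroup.gc_map_comap f).l_sSup, h.gen, map_top_of_surjective f hf]
  · rintro _ ⟨A, hA, rfl⟩ _ ⟨B, hB, rfl⟩ hne
    obtain ⟨R, hR, hRle, hn, hsup⟩ := h.line A hA B hB (fun e => hne (by rw [e]))
    refine ⟨R.map f, hR.map f, ?_, ?_, ?_⟩
    · rw [← Subgroup.map_sup]; exact map_mono hRle
    · rw [← Subgroup.map_sup]
      exact (map_mono hn).trans (le_normalizer_map f)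
    · rw [← Subgroup.map_sup, ← Subgroup.map_sup, hsup]
  · rintro _ ⟨A, hA, rfl⟩ _ ⟨B, hB, rfl⟩ _ ⟨C, hC, rfl⟩ hne hCA hle
    have hAB : A ≠ B := fun e => hne (by rw [e])
    obtain ⟨R, hR, hRle, hn, hsup⟩ := h.line A hA B hB hAB
    -- a member of `D` below `A ⊔ B` with the same image as `C`
    suffices ∃ C' ∈ D, C' ≤ A ⊔ B ∧ C'.map f = C.map f by
      obtain ⟨C', hC', hC'le, he⟩ := this
      rw [← he, ← Subgroup.map_sup, ← Subgroup.map_sup,
        h.eq A hA B hB C' hC' hAB (fun e => hCA (by rw [← he, e])) hC'le]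
    haveI := Fact.mk h.hr
    have hcardA : Nat.card (A.map f) = p := by
      refine le_antisymm (le_of_le_of_eq ?_ (h.card A hA)) ?_
      · exact Nat.le_of_dvd Nat.card_pos (card_map_dvd _ f)
      · by_contra hlt
        have h1 : Nat.card (A.map f) ∣ p := h.card A hA ▸ card_map_dvd _ f
        rcases h.hp.eq_one_or_self_of_dvd _ h1 with h2 | h2
        · obtain ⟨a, ha, ha1⟩ := h.exists_ne_one hA
          refine ha1 (hinj A hA a ha ?_)
          have h3 := Subgroup.card_eq_one.1 h2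
          have h4 : f a ∈ A.map f := mem_map_of_mem f ha
          rw [h3, Subgroup.mem_bot] at h4; exact h4
        · exact hlt h2.ge
    have hcardC : Nat.card (C.map f) = p := by
      have h1 : Nat.card (C.map f) ∣ p := h.card C hC ▸ card_map_dvd _ f
      rcases h.hp.eq_one_or_self_of_dvd _ h1 with h2 | h2
      · obtain ⟨a, ha, ha1⟩ := h.exists_ne_one hC
        refine absurd (hinj C hC a ha ?_) ha1
        have h3 := Subgroup.card_eq_one.1 h2
        have h4 : f a ∈ C.map f := mem_map_of_mem f ha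
        rw [h3, Subgroup.mem_bot] at h4; exact h4
      · exact h2
    have hcop : ∀ X : Subgroup H, Nat.card X = p → (Nat.card X).Coprime (Nat.card (R.map f)) := by
      intro X hX
      obtain ⟨k, hk⟩ := (hR.map f).exists_card_eq
      rw [hX, hk]
      exact Nat.Coprime.pow_right _ ((Nat.coprime_primes h.hp h.hr).2 h.hpr)
    have hnA : A.map f ≤ normalizer ((R.map f : Subgroup H) : Set H) :=
      (map_mono (le_sup_left.trans hn)).trans (le_normalizer_map f)
    have hleC : C.map f ≤ R.map f ⊔ A.map f := by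
      rwa [← Subgroup.map_sup, hsup, Subgroup.map_sup]
    have hnC : C.map f ≤ normalizer ((R.map f : Subgroup H) : Set H) :=
      hleC.trans (sup_le le_normalizer hnA)
    have hs : C.map f ⊔ R.map f = A.map f ⊔ R.map f := by
      refine Subgroup.eq_of_le_of_card_ge
        (sup_le (hleC.trans (le_of_eq (sup_comm _ _))) le_sup_right) ?_
      rw [Coprime.card_sup_of_coprime hnC (hcop _ hcardC),
        Coprime.card_sup_of_coprime hnA (hcop _ hcardA), hcardC, hcardA]
    have hsol : Group.IsSolvable (R.map f) := by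
      haveI := (hR.map f).isNilpotent; infer_instance
    obtain ⟨y, hy, hye⟩ :=
      Coprime.complement_conj hnA (hcop _ hcardA) (hcop _ hcardC) hs (Or.inr hsol)
    obtain ⟨y, hy', rfl⟩ := hy
    refine ⟨cj y A, h.inv A hA y, ?_, ?_⟩
    · exact cj_le_of_mem le_sup_left (hRle hy')
    · rw [cj_map, cj_eq_smul, ← hye]

/-- The hypothesis restricted to a subgroup generated by members. -/
theorem sub (h : Base p r D) {K : Subgroup G} (hK : IsSub D K) :
    Base p r {B : Subgroup K | B.map K.subtype ∈ D} := by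
  have hinj := K.subtype_injective
  have hmap : ∀ A : Subgroup G, A ≤ K → (A.subgroupOf K).map K.subtype = A := fun A hA => by
    rw [subgroupOf_map_subtype, inf_eq_left.2 hA]
  refine ⟨h.hp, h.hr, h.hp2, h.hr2, h.hpr, ?_, ?_, ?_, ?_, ?_⟩
  · intro B hB
    rw [← card_map_of_injective (K := B) hinj]
    exact h.card _ hB
  · intro B hB g
    show (cj g B).map K.subtype ∈ D
    rw [cj_map]
    exact h.inv _ hB _
  · apply map_injective hinj
    rw [(Subgroup.gc_map_comap K.subtype).l_sSup, ← MonoidHom.range_eq_map, range_subtype]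
    refine le_antisymm (iSup₂_le fun B _ => map_subtype_le B) ?_
    conv_lhs => rw [← hK]
    refine sSup_le fun A hA => ?_
    refine le_iSup₂_of_le (A.subgroupOf K) ?_ (hmap A hA.2).ge
    show (A.subgroupOf K).map K.subtype ∈ D
    rw [hmap A hA.2]; exact hA.1
  · intro A hA B hB hne
    obtain ⟨R, hR, hRle, hn, hsup⟩ := h.line _ hA _ hB (fun e => hne (map_injective hinj e))
    have hRK : R ≤ K := hRle.trans (by
      rw [← Subgroup.map_sup]; exact map_subtype_le _)
    refine ⟨R.subgroupOf K, hR.comap_of_injective _ hinj, ?_, ?_, ?_⟩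
    · rw [← map_le_map_iff_of_injective hinj, hmap R hRK, Subgroup.map_sup]; exact hRle
    · intro x hx
      have h1 : (x : G) ∈ normalizer (R : Set G) :=
        hn (by rw [← Subgroup.map_sup]; exact mem_map_of_mem _ hx)
      rw [Subgroup.mem_normalizer_iff] at h1 ⊢
      intro y
      simpa [mem_subgroupOf] using h1 y
    · apply map_injective hinj
      rw [Subgroup.map_sup, Subgroup.map_sup, hmap R hRK]; exact hsup
  · intro A hA B hB C hC hne hCA hle
    apply map_injective hinj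
    rw [Subgroup.map_sup, Subgroup.map_sup]
    exact h.eq _ hA _ hB _ hC (fun e => hne (map_injective hinj e))
      (fun e => hCA (map_injective hinj e)) (by rw [← Subgroup.map_sup]; exact map_mono hle)

theorem cj_sub_mem (h : Base p r D) (g : G) {K : Subgroup G} :
    pts D (cj g K) = cj g '' pts D K := by
  ext A
  constructor
  · rintro ⟨hA, hle⟩
    refine ⟨cj g⁻¹ A, ⟨h.inv A hA _, ?_⟩, by rw [cj_cj, mul_inv_cancel, cj_one]⟩
    have := cj_mono (g := g⁻¹) hle
    rwa [cj_cj, inv_mul_cancel, cj_one] at this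
  · rintro ⟨B, ⟨hB, hle⟩, rfl⟩
    exact ⟨h.inv B hB g, cj_mono hle⟩

theorem isSub_cj (h : Base p r D) {g : G} {K : Subgroup G} (hK : IsSub D K) :
    IsSub D (cj g K) := by
  show sSup (pts D (cj g K)) = cj g K
  rw [h.cj_sub_mem, sSup_image]
  conv_rhs => rw [← hK]
  exact ((Subgroup.gc_map_comap _).l_sSup).symm

end Base

theorem isSub_sSup (D : Set (Subgroup G)) {S : Set (Subgroup G)} (hS : S ⊆ D) :
    IsSub D (sSup S) :=
  le_antisymm (sSup_le fun _ h => h.2) (sSup_le fun A hA => le_sSup ⟨hS hA, le_sSup hA⟩)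

theorem isSub_sup (D : Set (Subgroup G)) {A B : Subgroup G} (hA : A ∈ D) (hB : B ∈ D) :
    IsSub D (A ⊔ B) := by
  have := isSub_sSup D (S := {A, B}) (by rintro x (rfl | rfl) <;> assumption)
  rwa [sSup_pair] at this

theorem IsSub.le_of_pts {D : Set (Subgroup G)} {K L : Subgroup G} (hK : IsSub D K)
    (h : ∀ A ∈ pts D K, A ≤ L) : K ≤ L := by
  conv_lhs => rw [← hK]
  exact sSup_le h

end Cfsg.Agent.H73.Fis
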