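import Cfsg.Agent.H73.Fis.TI
import Cfsg.Agent.S0205
import Cfsg.Agent.Invol.RankOneQuot

/-!
# Involutions acting on a line system: the minimal counterexample
-/

set_option autoImplicit false
set_option linter.style.haveILetI false

namespace Cfsg.Agent.H73.Fis

open Subgroup
open scoped Pointwise commutatorElement

universe u

variable {G : Type u} [Group G] [Finite G]

theorem exists_half {y : G} (h : Odd (orderOf y)) : ∃ k : ℕ, y ^ k * y ^ k = y := by
  obtain ⟨m, hm⟩ := h
  exact ⟨m + 1, by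
    rw [← pow_add, show m + 1 + (m + 1) = 2 * m + 1 + 1 by ring, ← hm, pow_succ, pow_orderOf_eq_one,
      one_mul]⟩

/-- A correction by a square root makes an element fixed by an involution. -/
theorem exists_fixed_mul {s x : G} (hs : s * s = 1)
    (hodd : Odd (orderOf (x⁻¹ * (s * x * s)))) :
    ∃ k : ℕ, Commute (x * (x⁻¹ * (s * x * s)) ^ k) s ∧
      s * (x⁻¹ * (s * x * s)) ^ k * s = ((x⁻¹ * (s * x * s)) ^ k)⁻¹ := by
  have hsi : s⁻¹ = s := inv_eq_of_mul_eq_one_right hs
  obtain ⟨k, hk⟩ := exists_half hodd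
  set y := x⁻¹ * (s * x * s) with hy
  have h1 : s * y * s = y⁻¹ := by
    calc s * y * s = (s * x⁻¹ * s) * x * (s * s) := by rw [hy]; group
      _ = y⁻¹ := by rw [hs, mul_one, hy, mul_inv_rev, inv_inv, mul_inv_rev, mul_inv_rev, hsi]; group
  have h2 : ∀ n : ℕ, s * y ^ n * s = (y ^ n)⁻¹ := fun n => by
    induction n with
    | zero => simpa using hs
    | succ n ih =>
      rw [pow_succ, mul_inv_rev, ← ih, ← h1]
      calc s * (y ^ n * y) * s = (s * y ^ n * s) * (s * y * s) := by
            simp only [mul_assoc]; rw [← mul_assoc s s (y * s), hs, one_mul]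
        _ = (s * y * s) * (s * y ^ n * s) := by
            rw [h1, ih, ← mul_inv_rev, ← mul_inv_rev, ← pow_succ, ← pow_succ']
  refine ⟨k, ?_, h2 k⟩
  have h3 : s * (x * y ^ k) * s = x * y ^ k := by
    calc s * (x * y ^ k) * s = (s * x * s) * (s * y ^ k * s) := by
          simp only [mul_assoc]; rw [← mul_assoc s s (y ^ k * s), hs, one_mul]
      _ = x * y * (y ^ k)⁻¹ := by rw [h2, hy]; group
      _ = x * y ^ k := by
          have : y * (y ^ k)⁻¹ = y ^ k := mul_inv_eq_iff_eq_mul.2 hk.symm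
          rw [mul_assoc, this]
  show (x * y ^ k) * s = s * (x * y ^ k)
  calc (x * y ^ k) * s = (s * (x * y ^ k) * s) * s := by rw [h3]
    _ = s * (x * y ^ k) := by rw [mul_assoc, hs, mul_one]

/-- An element of `K s` of twice odd order has a power conjugate to `s`. -/
theorem exists_twist {s h : G} (hs : orderOf s = 2) {K : Subgroup G} (hodd : Odd (Nat.card K))
    (hsol : Group.IsSolvable K) (hsK : s ∈ normalizer (K : Set G)) {k0 : G} (hk0 : k0 ∈ K)
    (hh : h = k0 * s) :
    ∃ x ∈ K, ∃ n : ℕ, h ^ n = x * s * x⁻¹ ∧ Commute (x⁻¹ * h * x) s ∧ x⁻¹ * h * x * s ∈ K := by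
  have hss : s * s = 1 := by rw [← pow_two, ← hs, pow_orderOf_eq_one]
  have hsi : s⁻¹ = s := inv_eq_of_mul_eq_one_right hss
  have hconj : ∀ y ∈ K, s * y * s ∈ K := fun y hy => by
    have := (Subgroup.mem_normalizer_iff.1 hsK y).1 hy
    rwa [hsi] at this
  have h2 : h * h ∈ K := by
    rw [hh, show k0 * s * (k0 * s) = k0 * (s * k0 * s) by group]
    exact mul_mem hk0 (hconj k0 hk0)
  have hsnot : s ∉ K := fun hsk => by
    have h3 := hs ▸ Subgroup.orderOf_dvd_natCard K hsk
    exact (Nat.not_even_iff_odd.2 hodd) (even_iff_two_dvd.2 h3)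
  obtain ⟨j, hj⟩ := Odd.of_dvd_nat hodd (Subgroup.orderOf_dvd_natCard K h2)
  set m := orderOf (h * h) with hm
  have hpow : (h ^ m) * (h ^ m) = 1 := by
    rw [← Commute.mul_pow (Commute.refl h), hm, pow_orderOf_eq_one]
  have hmem : h ^ m * s ∈ K := by
    have hhs : h * s = k0 := by rw [hh, mul_assoc, hss, mul_one]
    rw [hj, pow_succ, pow_mul, pow_two, mul_assoc, hhs]
    exact mul_mem (pow_mem h2 j) hk0
  set t := h ^ m
  have ht1 : t ≠ 1 := fun ht => hsnot (by rwa [ht, one_mul] at hmem)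
  have ht : orderOf t = 2 := orderOf_eq_prime (by rw [pow_two, hpow]) ht1
  have hcard : ∀ {g : G}, orderOf g = 2 → (Nat.card (zpowers g)).Coprime (Nat.card K) := fun hg => by
    rw [Nat.card_zpowers, hg]; exact Nat.coprime_two_left.2 hodd
  have hts : t = (t * s) * s := by rw [mul_assoc, hss, mul_one]
  have hsup : zpowers t ⊔ K = zpowers s ⊔ K := by
    refine le_antisymm (sup_le ?_ le_sup_right) (sup_le ?_ le_sup_right) <;> rw [zpowers_le]
    · rw [hts]; exact mul_mem (mem_sup_right hmem) (mem_sup_left (mem_zpowers s))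
    · have : s = t * (t * s) := by rw [← mul_assoc, hpow, one_mul]
      rw [this]; exact mul_mem (mem_sup_left (mem_zpowers t)) (mem_sup_right hmem)
  obtain ⟨x, hx, hxe⟩ := Coprime.complement_conj (zpowers_le.2 hsK) (hcard hs) (hcard ht) hsup
    (Or.inr hsol)
  rw [← cj_eq_smul] at hxe
  have htx : t = x * s * x⁻¹ := by
    have h4 : x⁻¹ * t * x ∈ zpowers s := mem_cj.1 (hxe ▸ mem_zpowers t)
    have h5 : ∀ g ∈ zpowers s, g = 1 ∨ g = s := by
      intro g hg
      obtain ⟨i, rfl⟩ := (mem_powers_iff_mem_zpowers (x := s)).2 hg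
      show s ^ i = 1 ∨ s ^ i = s
      rw [← pow_mod_orderOf, hs]
      rcases Nat.mod_two_eq_zero_or_one i with h6 | h6 <;> simp [h6]
    rcases h5 _ h4 with h6 | h6
    · exact absurd (by
        calc t = x * (x⁻¹ * t * x) * x⁻¹ := by group
          _ = 1 := by rw [h6]; group) ht1
    · rw [← h6]; group
  refine ⟨x, hx, m, htx, ?_, ?_⟩
  · have hc : Commute h (x * s * x⁻¹) := htx ▸ Commute.self_pow h m
    show x⁻¹ * h * x * s = s * (x⁻¹ * h * x)
    calc x⁻¹ * h * x * s = x⁻¹ * (h * (x * s * x⁻¹)) * x := by group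
      _ = x⁻¹ * ((x * s * x⁻¹) * h) * x := by rw [hc.eq]
      _ = s * (x⁻¹ * h * x) := by group
  · rw [hh, show x⁻¹ * (k0 * s) * x * s = x⁻¹ * k0 * (s * x * s) by group]
    exact mul_mem (mul_mem (inv_mem hx) hk0) (hconj x hx)

namespace MC

variable {p r : ℕ} {D : Set (Subgroup G)}

theorem nonempty (m : MC p r D) : D.Nonempty := by
  rcases D.eq_empty_or_nonempty with h | h
  · exfalso
    have h1 := m.base.gen
    rw [h, sSup_empty] at h1
    have := m.even
    rw [← Subgroup.card_top (G := G), ← h1, Subgroup.card_bot] at this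
    omega
  · exact h

theorem line_isSub (m : MC p r D) {A B : Subgroup G} (hA : A ∈ D) (hB : B ∈ D) :
    IsSub D (A ⊔ B) ∧ A ⊔ B ≠ ⊤ := by
  refine ⟨isSub_sup D hA hB, fun htop => ?_⟩
  have hbot : ∀ N : Subgroup G, N.Normal → Nat.card N = p → False := fun N hN hc => by
    haveI := (IsPGroup.of_card (p := p) (n := 1) (by rw [pow_one]; exact hc))
    haveI := Fact.mk m.base.hp
    have hs : Group.IsSolvable N := by
      haveI := (IsPGroup.of_card (p := p) (n := 1) (G := N) (by rw [pow_one]; exact hc)).isNilpotent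
      infer_instance
    rw [m.nosolv N hN hs, Subgroup.card_bot] at hc
    exact m.base.hp.ne_one hc.symm
  rcases eq_or_ne A B with rfl | hne
  · rw [sup_idem] at htop
    exact hbot A (by rw [htop]; infer_instance) (m.base.card A hA)
  · haveI := Fact.mk m.base.hr
    obtain ⟨R, hR, -, hn, hsup⟩ := m.base.line A hA B hB hne
    rw [htop, top_le_iff] at hn
    have hR1 := m.nosolv R (Subgroup.normalizer_eq_top_iff.1 hn)
      (by haveI := hR.isNilpotent; infer_instance)
    rw [hR1, bot_sup_eq, htop] at hsup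
    exact hbot A (by rw [hsup]; infer_instance) (m.base.card A hA)

theorem odd_card (m : MC p r D) {K : Subgroup G} (hK : IsSub D K) (hne : K ≠ ⊤) :
    Odd (Nat.card K) := by
  haveI := Fact.mk m.base.hr
  rcases (pts D K).eq_empty_or_nonempty with h | ⟨A, hA⟩
  · have : K = ⊥ := by rw [← hK, h]; simp
    rw [this, Subgroup.card_bot]; exact odd_one
  have d := m.radData hK hne
  rw [← d.sup A hA, sup_comm,
    Coprime.card_sup_of_coprime (hA.2.trans d.norm) (m.base.coprime_card hA.1 d.pg)]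
  obtain ⟨k, hk⟩ := d.pg.exists_card_eq
  rw [hk, m.base.card A hA.1]
  exact (m.base.hp.odd_of_ne_two m.base.hp2).mul ((m.base.hr.odd_of_ne_two m.base.hr2).pow)

theorem odd_order (m : MC p r D) {K : Subgroup G} (hK : IsSub D K) (hne : K ≠ ⊤) {x : G}
    (hx : x ∈ K) : Odd (orderOf x) :=
  Odd.of_dvd_nat (m.odd_card hK hne) (Subgroup.orderOf_dvd_natCard K hx)

theorem exists_rep (m : MC p r D) {K : Subgroup G} (hK : IsSub D K) (hne : K ≠ ⊤) {A C : Subgroup G}
    (hA : A ∈ pts D K) (hC : C ∈ pts D K) : ∃ x ∈ Rd r K, C = cj x A := by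
  have d := m.radData hK hne
  exact m.base.exists_sylow_conj hA.1 d.pg (hA.2.trans d.norm) (m.base.card C hC.1)
    (by rw [d.sup A hA]; exact hC.2)

theorem centralizer_of_normalizer (m : MC p r D) {K : Subgroup G} (hK : IsSub D K) (hne : K ≠ ⊤)
    {A : Subgroup G} (hA : A ∈ pts D K) {x : G} (hx : x ∈ Rd r K) (h : cj x A = A) :
    x ∈ centralizer (A : Set G) := by
  have d := m.radData hK hne
  obtain ⟨a, ha, ha1⟩ := m.base.exists_ne_one hA.1
  have h2 : ⁅x, a⁆ ∈ A := by
    rw [commutatorElement_def]; exact mul_mem (h ▸ conj_mem_cj ha) (inv_mem ha)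
  have h3 : ⁅x, a⁆ ∈ Rd r K := by
    rw [commutatorElement_def]
    have h4 := (Subgroup.mem_normalizer_iff.1 (d.norm (hA.2 ha)) x⁻¹).1 (inv_mem hx)
    have := mul_mem hx h4
    simpa [mul_assoc] using this
  have h5 : ⁅x, a⁆ = 1 := (Subgroup.mem_bot).1
    ((Subgroup.inf_eq_bot_of_coprime (m.base.coprime_card hA.1 d.pg)).le ⟨h2, h3⟩)
  exact m.mem_centralizer_of_commute hA.1 ha ha1 (commutatorElement_eq_one_iff_mul_comm.1 h5).symm

/-- Centralisers of a member inside a line are central. -/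
theorem line_central (m : MC p r D) {A B : Subgroup G} (hA : A ∈ D) (hB : B ∈ D) (hne : A ≠ B)
    {E : Subgroup G} (hE : E ∈ pts D (A ⊔ B)) {x : G} (hx : x ∈ Rd r (A ⊔ B))
    (hc : x ∈ centralizer (E : Set G)) : x ∈ centralizer ((A ⊔ B : Subgroup G) : Set G) := by
  obtain ⟨hX, hXne⟩ := m.line_isSub hA hB
  rcases m.cls with hc2 | ⟨hno, -⟩
  · exact (hc2 _ hX (m.sub _ hX hXne) E hE).1 x hx hc
  · have hr' := isR_of_pgroup (m.radData hX hXne).pg hx
    rcases eq_or_ne E A with rfl | hEA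
    · rw [hno E hA B hB hne x (rd_le r _ hx) hr' hc]; exact one_mem _
    · have heq := m.base.eq A hA B hB E hE.1 hne hEA hE.2
      rw [hno E hE.1 A hA hEA x (by rw [sup_comm, heq]; exact rd_le r _ hx) hr' hc]
      exact one_mem _

theorem involution_cases (m : MC p r D) {s : G} (hs : s * s = 1) {A : Subgroup G} (hA : A ∈ D)
    (hfix : cj s A = A) :
    s ∈ centralizer (A : Set G) ∨ ∀ a ∈ A, s * a * s = a⁻¹ := by
  by_contra hcon
  push Not at hcon
  obtain ⟨hnc, a, ha, hna⟩ := hcon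
  have hsi : s⁻¹ = s := inv_eq_of_mul_eq_one_right hs
  have hc : s * a * s ∈ A := by
    have := conj_mem_cj (g := s) ha
    rwa [hfix, hsi] at this
  set b := a * (s * a * s) with hb
  have hbA : b ∈ A := mul_mem ha hc
  have hcomm : Commute a (s * a * s) := by
    have hz := m.base.eq_zpowers hA ha (fun h => hna (by rw [h]; simpa using hs))
    obtain ⟨i, hi⟩ := mem_zpowers_iff.1 (hz ▸ hc)
    rw [← hi]; exact Commute.self_zpow a i
  have hb1 : b ≠ 1 := fun h => hna (eq_inv_of_mul_eq_one_right h)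
  refine hnc (m.mem_centralizer_of_commute hA hbA hb1 ?_)
  calc b * s = (s * a * s) * a * s := by rw [hb, hcomm.eq]
    _ = s * (a * (s * a * s)) := by group
    _ = s * b := by rw [hb]

/-- The centre of an orbit of length two, inside the centraliser of a commuting element. -/
theorem exists_centre (m : MC p r D) {s : G} (hs : orderOf s = 2) {C : Subgroup G} (hC : C ∈ D)
    (hne : cj s C ≠ C) (K : Subgroup G) (hK : K ≤ Rd r (C ⊔ cj s C))
    (hsK : s ∈ normalizer (K : Set G)) {y : G} (hy : y ∈ K) (hye : cj s C = cj y C) :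
    ∃ x ∈ K, cj s (cj x⁻¹ C) = cj x⁻¹ C := by
  haveI := Fact.mk m.base.hr
  obtain ⟨hX, hXne⟩ := m.line_isSub hC (m.base.inv C hC s)
  have d := m.radData hX hXne
  have hKr : IsPGroup r K := d.pg.to_le hK
  have hodd : Odd (Nat.card K) := by
    obtain ⟨k, hk⟩ := hKr.exists_card_eq
    rw [hk]; exact (m.base.hr.odd_of_ne_two m.base.hr2).pow
  obtain ⟨x, hx, n, hn, -, -⟩ := exists_twist hs hodd (by haveI := hKr.isNilpotent; infer_instance)
    hsK (inv_mem hy) (rfl : y⁻¹ * s = y⁻¹ * s)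
  have h1 : y⁻¹ * s ∈ normalizer (C : Set G) :=
    mem_normalizer_of_cj (by rw [← cj_cj, hye, cj_cj, inv_mul_cancel, cj_one])
  have h2 := cj_eq_of_normalizer (pow_mem h1 n)
  rw [hn] at h2
  refine ⟨x, hx, ?_⟩
  conv_rhs => rw [← h2]
  rw [cj_cj, cj_cj]; group

theorem exists_fixed_pt (m : MC p r D) {s : G} (hs : orderOf s = 2) {C : Subgroup G} (hC : C ∈ D)
    (hne : cj s C ≠ C) : ∃ E ∈ D, E ≤ C ⊔ cj s C ∧ cj s E = E := by
  have hss : s * s = 1 := by rw [← pow_two, ← hs, pow_orderOf_eq_one]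
  have hC' := m.base.inv C hC s
  obtain ⟨hX, hXne⟩ := m.line_isSub hC hC'
  obtain ⟨y, hy, hye⟩ := m.exists_rep hX hXne ⟨hC, le_sup_left⟩ ⟨hC', le_sup_right⟩
  have hXinv : cj s (C ⊔ cj s C) = C ⊔ cj s C := by
    rw [cj, Subgroup.map_sup]
    show cj s C ⊔ cj s (cj s C) = _
    rw [cj_cj, hss, cj_one, sup_comm]
  obtain ⟨x, hx, hxe⟩ := m.exists_centre hs hC hne _ le_rfl
    (mem_normalizer_of_cj (by rw [cj_rd, hXinv])) hy hye
  exact ⟨_, m.base.inv C hC _, cj_le_of_mem le_sup_left (rd_le r _ (inv_mem hx)), hxe⟩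

theorem exists_fixed (m : MC p r D) {s : G} (hs : orderOf s = 2) :
    ∃ E ∈ D, cj s E = E := by
  obtain ⟨C, hC⟩ := m.nonempty
  by_cases hne : cj s C = C
  · exact ⟨C, hC, hne⟩
  · obtain ⟨E, hE, -, h⟩ := m.exists_fixed_pt hs hC hne
    exact ⟨E, hE, h⟩

/-- Two members fixed by `s`, one centralised: both are centralised. -/
theorem centralizes_second (m : MC p r D) {s : G} (hss : s * s = 1) {A B : Subgroup G}
    (hA : A ∈ D) (hB : B ∈ D) (hfA : cj s A = A) (hfB : cj s B = B)
    (hc : s ∈ centralizer (A : Set G)) : s ∈ centralizer (B : Set G) := by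
  rcases eq_or_ne A B with rfl | hne
  · exact hc
  obtain ⟨hX, hXne⟩ := m.line_isSub hA hB
  have hXinv : cj s (A ⊔ B) = A ⊔ B := by
    rw [cj, Subgroup.map_sup]
    show cj s A ⊔ cj s B = _
    rw [hfA, hfB]
  obtain ⟨x, hx, rfl⟩ := m.exists_rep hX hXne ⟨hA, le_sup_left⟩ ⟨hB, le_sup_right⟩
  have hsi : s⁻¹ = s := inv_eq_of_mul_eq_one_right hss
  have hy : x⁻¹ * (s * x * s) ∈ Rd r (A ⊔ cj x A) := by
    refine mul_mem (inv_mem hx) ?_
    have := conj_mem_cj (g := s) hx
    rwa [cj_rd, hXinv, hsi] at this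
  obtain ⟨k, hk, -⟩ := exists_fixed_mul hss (m.odd_order hX hXne (rd_le r _ hy))
  have hfy : cj (x⁻¹ * (s * x * s)) A = A := by
    rw [← cj_cj, ← cj_cj, ← cj_cj, hfA, hfB, cj_cj, inv_mul_cancel, cj_one]
  have h2 : cj (x * (x⁻¹ * (s * x * s)) ^ k) A = cj x A := by
    rw [← cj_cj, cj_eq_of_normalizer (pow_mem (mem_normalizer_of_cj hfy) k)]
  rw [← h2, mem_centralizer_iff]
  intro b hb
  set c := x * (x⁻¹ * (s * x * s)) ^ k
  have h3 := mem_centralizer_iff.1 hc _ (mem_cj.1 hb)
  calc b * s = c * (c⁻¹ * b * c) * (c⁻¹ * s) := by group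
    _ = c * ((c⁻¹ * b * c) * s) * c⁻¹ := by rw [(hk.inv_left).eq]; group
    _ = c * (s * (c⁻¹ * b * c)) * c⁻¹ := by rw [h3]
    _ = (c * s) * c⁻¹ * b := by group
    _ = s * b := by rw [hk.eq]; group

/-- Every involution has a commuting conjugate different from itself. -/
theorem exists_commuting_conj (m : MC p r D) {s : G} (hs : orderOf s = 2) :
    ∃ g : G, Commute (g * s * g⁻¹) s ∧ g * s * g⁻¹ ≠ s := by
  by_contra hcon
  push Not at hcon
  have hiso : Invol.IsIsolatedInv s := ⟨hs, hcon⟩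
  have hN : Group.IsSolvable (pPrimeCore 2 G) := by
    haveI := Fact.mk Nat.prime_two
    exact S0205.result (Nat.odd_iff.2 (Nat.two_dvd_ne_zero.1 Cores.not_dvd_card_pPrimeCore))
  have hbot := m.nosolv (pPrimeCore 2 G) inferInstance hN
  have hcen : s ∈ center G := Subgroup.mem_center_iff.2 fun g => by
    have h1 := Invol.zStar_theorem G s hiso g
    rw [hbot, Subgroup.mem_bot, commutatorElement_eq_one_iff_mul_comm] at h1
    exact h1.symm
  rw [m.center_eq_bot, Subgroup.mem_bot] at hcen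
  rw [hcen, orderOf_one] at hs
  omega

/-- An involution centralising every member it normalises, and some member. -/
def TC (D : Set (Subgroup G)) (s : G) : Prop :=
  orderOf s = 2 ∧ ∀ A ∈ D, cj s A = A → s ∈ centralizer (A : Set G)

omit [Finite G] in
theorem TC.sq {s : G} (h : TC D s) : s * s = 1 := by rw [← pow_two, ← h.1, pow_orderOf_eq_one]

theorem tc_of (m : MC p r D) {v : G} (hv : orderOf v = 2) {E : Subgroup G} (hE : E ∈ D)
    (hvE : v ∈ centralizer (E : Set G)) : TC D v := by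
  have hvv : v * v = 1 := by rw [← pow_two, ← hv, pow_orderOf_eq_one]
  exact ⟨hv, fun A hA hfix => m.centralizes_second hvv hE hA
    (cj_eq_of_normalizer (centralizer_le_normalizer _ hvE)) hfix hvE⟩

theorem le_centralizer_singleton {s : G} {A : Subgroup G} :
    A ≤ centralizer ({s} : Set G) ↔ s ∈ centralizer (A : Set G) := by
  constructor
  · intro h
    exact mem_centralizer_iff.2 fun a ha => mem_centralizer_singleton_iff.1 (h ha)
  · intro h a ha
    exact mem_centralizer_singleton_iff.2 (mem_centralizer_iff.1 h a ha)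

theorem tc_le (m : MC p r D) {s : G} (h : TC D s) {A : Subgroup G} (hA : A ∈ D)
    (hfix : cj s A = A) : A ≤ Hz D s := le_sSup ⟨hA, le_centralizer_singleton.2 (h.2 A hA hfix)⟩

theorem fixed_of_le (_m : MC p r D) {s : G} {A : Subgroup G} (h : A ≤ Hz D s) : cj s A = A :=
  cj_eq_of_normalizer (centralizer_le_normalizer _
    (le_centralizer_singleton.1 (h.trans (sSup_le fun _ hB => hB.2))))

theorem tc_conj (m : MC p r D) {s : G} (h : TC D s) (g : G) : TC D (g * s * g⁻¹) := by
  have ho : orderOf (g * s * g⁻¹) = 2 := by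
    rw [← h.1]
    exact (orderOf_injective (MulAut.conj g).toMonoidHom (MulEquiv.injective _) s)
  refine ⟨ho, fun A hA hfix => ?_⟩
  have h1 : cj s (cj g⁻¹ A) = cj g⁻¹ A := by
    rw [cj_cj, show s * g⁻¹ = g⁻¹ * (g * s * g⁻¹) by group, ← cj_cj, hfix]
  have h2 := mem_centralizer_iff.1 (h.2 _ (m.base.inv A hA _) h1)
  refine mem_centralizer_iff.2 fun a ha => ?_
  have h3 := h2 _ (conj_mem_cj (g := g⁻¹) ha)
  calc a * (g * s * g⁻¹) = g * ((g⁻¹ * a * g⁻¹⁻¹) * s) * g⁻¹ := by group
    _ = g * (s * (g⁻¹ * a * g⁻¹⁻¹)) * g⁻¹ := by rw [h3]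
    _ = g * s * g⁻¹ * a := by group

theorem exists_tc (m : MC p r D) : ∃ t : G, TC D t := by
  haveI := Fact.mk Nat.prime_two
  haveI := Fact.mk m.base.hr
  obtain ⟨s, hs⟩ := exists_prime_orderOf_dvd_card' 2 m.even
  by_contra hcon
  push Not at hcon
  have hinv : ∀ v : G, orderOf v = 2 → ∀ A ∈ D, cj v A = A → ∀ a ∈ A, v * a * v = a⁻¹ :=
    fun v hv A hA hf => (m.involution_cases (by rw [← pow_two, ← hv, pow_orderOf_eq_one]) hA hf
      ).resolve_left fun h => hcon v (m.tc_of hv hA h)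
  obtain ⟨g, hgc, hgne⟩ := m.exists_commuting_conj hs
  set u := g * s * g⁻¹ with hu
  have hu2 : orderOf u = 2 := by
    rw [← hs]; exact (orderOf_injective (MulAut.conj g).toMonoidHom (MulEquiv.injective _) s)
  have hss : s * s = 1 := by rw [← pow_two, ← hs, pow_orderOf_eq_one]
  have huu : u * u = 1 := by rw [← pow_two, ← hu2, pow_orderOf_eq_one]
  -- a member fixed by both
  obtain ⟨E, hE, hEs, hEu⟩ : ∃ E ∈ D, cj s E = E ∧ cj u E = E := by
    obtain ⟨C, hC, hCu⟩ := m.exists_fixed hu2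
    by_cases hne : cj s C = C
    · exact ⟨C, hC, hne, hCu⟩
    have hC' := m.base.inv C hC s
    obtain ⟨hX, hXne⟩ := m.line_isSub hC hC'
    have hCu' : cj u (cj s C) = cj s C := by rw [cj_cj, hgc.eq, ← cj_cj, hCu]
    have hXu : cj u (C ⊔ cj s C) = C ⊔ cj s C := by
      rw [cj, Subgroup.map_sup]
      show cj u C ⊔ cj u (cj s C) = _
      rw [hCu, hCu']
    have hXs : cj s (C ⊔ cj s C) = C ⊔ cj s C := by
      rw [cj, Subgroup.map_sup]
      show cj s C ⊔ cj s (cj s C) = _
      rw [cj_cj, hss, cj_one, sup_comm]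
    obtain ⟨y, hy, hye⟩ := m.exists_rep hX hXne ⟨hC, le_sup_left⟩ ⟨hC', le_sup_right⟩
    have hy' : y⁻¹ * (u * y * u) ∈ Rd r (C ⊔ cj s C) := by
      refine mul_mem (inv_mem hy) ?_
      have := conj_mem_cj (g := u) hy
      rwa [cj_rd, hXu, inv_eq_of_mul_eq_one_right huu] at this
    obtain ⟨k, hk, -⟩ := exists_fixed_mul huu (m.odd_order hX hXne (rd_le r _ hy'))
    have hfy : cj (y⁻¹ * (u * y * u)) C = C := by
      rw [← cj_cj, ← cj_cj, ← cj_cj, hCu, ← hye, hCu', hye, cj_cj, inv_mul_cancel, cj_one]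
    have hye' : cj s C = cj (y * (y⁻¹ * (u * y * u)) ^ k) C := by
      rw [← cj_cj, cj_eq_of_normalizer (pow_mem (mem_normalizer_of_cj hfy) k), ← hye]
    obtain ⟨x, hx, hxe⟩ := m.exists_centre hs hC hne
      (Rd r (C ⊔ cj s C) ⊓ centralizer ({u} : Set G)) inf_le_left
      (mem_normalizer_of_cj (Subgroup.eq_of_le_of_card_ge (by
        intro w hw
        have hw' := mem_cj.1 hw
        refine ⟨?_, ?_⟩
        · have := conj_mem_cj (g := s) hw'.1
          rw [cj_rd, hXs, show s * (s⁻¹ * w * s) * s⁻¹ = w by group] at this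
          exact this
        · have h1 := mem_centralizer_singleton_iff.1 hw'.2
          refine mem_centralizer_singleton_iff.2 ?_
          calc w * u = s * (s⁻¹ * w * s) * (s⁻¹ * u) := by group
            _ = s * ((s⁻¹ * w * s) * u) * s⁻¹ := by rw [(hgc.symm.inv_left).eq]; group
            _ = s * (u * (s⁻¹ * w * s)) * s⁻¹ := by rw [h1]
            _ = (s * u) * s⁻¹ * w := by group
            _ = u * w := by rw [hgc.symm.eq]; group) (card_cj _ _).ge))
      ⟨mul_mem hy (pow_mem hy' k), mem_centralizer_singleton_iff.2 hk.eq⟩ hye'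
    refine ⟨cj x⁻¹ C, m.base.inv C hC _, hxe, ?_⟩
    have hxu : Commute x u := mem_centralizer_singleton_iff.1 hx.2
    rw [cj_cj, (hxu.inv_left).symm.eq, ← cj_cj, hCu]
  set v := u * s with hv
  have hv1 : v ≠ 1 := fun h => hgne (by
    calc u = u * (s * s) := by rw [hss, mul_one]
      _ = v * s := by rw [hv]; group
      _ = s := by rw [h, one_mul])
  have hv2 : orderOf v = 2 := orderOf_eq_prime (by
    rw [pow_two, hv]
    calc u * s * (u * s) = u * (s * u) * s := by group
      _ = (u * u) * (s * s) := by rw [hgc.symm.eq]; group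
      _ = 1 := by rw [huu, hss, one_mul]) hv1
  refine hcon v (m.tc_of hv2 hE (mem_centralizer_iff.2 fun a ha => ?_))
  have h1 := hinv s hs E hE hEs a ha
  have h2 := hinv u hu2 E hE hEu a⁻¹ (inv_mem ha)
  calc a * (u * s) = (u * (s * a * s) * u) * (u * s) := by rw [h1, h2, inv_inv]
    _ = u * (s * a * s) * (u * u) * s := by group
    _ = u * s * a * (s * s) := by rw [huu]; group
    _ = u * s * a := by rw [hss, mul_one]

/-- A subsystem containing the fixed members of `s` is normalised by `s`. -/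
theorem sub_invariant (m : MC p r D) {s : G} (h : TC D s) {K : Subgroup G} (hK : IsSub D K)
    (hle : Hz D s ≤ K) : cj s K = K := by
  refine Subgroup.eq_of_le_of_card_ge ?_ (card_cj s K).ge
  show Subgroup.map _ K ≤ K
  conv_lhs => rw [← hK]
  rw [(Subgroup.gc_map_comap _).l_sSup]
  refine iSup₂_le fun C hC => ?_
  show cj s C ≤ K
  by_cases hne : cj s C = C
  · rw [hne]; exact hC.2
  obtain ⟨E, hE, hEle, hEf⟩ := m.exists_fixed_pt h.1 hC.1 hne
  have hEC : E ≠ C := fun e => hne (e ▸ hEf)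
  have := m.base.eq C hC.1 _ (m.base.inv C hC.1 s) E hE (Ne.symm hne) hEC hEle
  exact le_sup_right.trans (this.ge.trans (sup_le hC.2 ((m.tc_le h hE hEf).trans hle)))

/-- Not all involutions fixing a single member. -/
theorem exists_two (m : MC p r D) {s : G} (h : TC D s) :
    ∃ E ∈ D, ∃ B ∈ D, E ≠ B ∧ E ≤ Hz D s ∧ B ≤ Hz D s := by
  haveI := Fact.mk m.base.hr
  obtain ⟨E, hE, hEf⟩ := m.exists_fixed h.1
  by_contra hcon
  push Not at hcon
  have hone : ∀ A ∈ D, cj s A = A → A = E := fun A hA hAf => by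
    by_contra hne
    exact hcon E hE A hA (Ne.symm hne) (m.tc_le h hE hEf) (m.tc_le h hA hAf)
  have hss := h.sq
  obtain ⟨g, hgc, hgne⟩ := m.exists_commuting_conj h.1
  set u := g * s * g⁻¹ with hu
  have hut : TC D u := m.tc_conj h g
  have huu := hut.sq
  have hone' : ∀ A ∈ D, cj u A = A → A = cj g E := fun A hA hAf => by
    have h1 : cj s (cj g⁻¹ A) = cj g⁻¹ A := by
      rw [cj_cj, show s * g⁻¹ = g⁻¹ * (g * s * g⁻¹) by group, ← cj_cj, ← hu, hAf]
    rw [← hone _ (m.base.inv A hA _) h1, cj_cj, mul_inv_cancel, cj_one]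
  have hgE : cj g E = E := by
    refine hone _ (m.base.inv E hE g) (hone' _ (m.base.inv _ (m.base.inv E hE g) s) ?_)
    rw [cj_cj, hgc.eq, ← cj_cj, show cj u (cj g E) = cj g E by
      rw [cj_cj, hu, inv_mul_cancel_right, ← cj_cj, hEf]]
  set v := u * s with hv
  have hv1 : v ≠ 1 := fun h' => hgne (by
    calc u = u * (s * s) := by rw [hss, mul_one]
      _ = v * s := by rw [hv]; group
      _ = s := by rw [h', one_mul])
  have hv2 : orderOf v = 2 := orderOf_eq_prime (by
    rw [pow_two, hv]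
    calc u * s * (u * s) = u * (s * u) * s := by group
      _ = (u * u) * (s * s) := by rw [hgc.symm.eq]; group
      _ = 1 := by rw [huu, hss, one_mul]) hv1
  -- `v` fixes every member
  have hall : ∀ C ∈ D, cj v C = C := by
    intro C hC
    rcases eq_or_ne C E with rfl | hCE
    · rw [hv, ← cj_cj, hEf]
      calc cj u C = cj g (cj s (cj g⁻¹ C)) := by rw [cj_cj, cj_cj, hu]
        _ = C := by
          rw [show cj g⁻¹ C = C by conv_lhs => rw [← hgE, cj_cj, inv_mul_cancel, cj_one], hEf, hgE]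
    obtain ⟨hX, hXne⟩ := m.line_isSub hE hC
    -- the line is invariant
    have hinv : ∀ w : G, orderOf w = 2 → cj w E = E → (∀ A ∈ D, cj w A = A → A = E) →
        cj w (E ⊔ C) = E ⊔ C := by
      intro w hw hwE hw1
      have hne : cj w C ≠ C := fun e => hCE (hw1 C hC e)
      obtain ⟨E0, hE0, hE0le, hE0f⟩ := m.exists_fixed_pt hw hC hne
      rw [hw1 E0 hE0 hE0f] at hE0le
      have := m.base.eq C hC _ (m.base.inv C hC w) E hE (Ne.symm hne) (Ne.symm hCE) hE0le
      rw [sup_comm E C, this, cj, Subgroup.map_sup]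
      show cj w C ⊔ cj w (cj w C) = _
      rw [cj_cj, show w * w = 1 by rw [← pow_two, ← hw, pow_orderOf_eq_one], cj_one, sup_comm]
    -- each of `s`, `u` inverts the radical modulo the centre
    have hneg : ∀ w : G, orderOf w = 2 → w ∈ centralizer (E : Set G) → cj w E = E →
        (∀ A ∈ D, cj w A = A → A = E) → ∀ x ∈ Rd r (E ⊔ C),
        ∃ z ∈ centralizer ((E ⊔ C : Subgroup G) : Set G), w * x * w = z * x⁻¹ := by
      intro w hw hwc hwE hw1 x hx
      have hww : w * w = 1 := by rw [← pow_two, ← hw, pow_orderOf_eq_one]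
      have hwi : w⁻¹ = w := inv_eq_of_mul_eq_one_right hww
      have hy : x⁻¹ * (w * x * w) ∈ Rd r (E ⊔ C) := by
        refine mul_mem (inv_mem hx) ?_
        have := conj_mem_cj (g := w) hx
        rwa [cj_rd, hinv w hw hwE hw1, hwi] at this
      obtain ⟨k, hk, hinvk⟩ := exists_fixed_mul hww (m.odd_order hX hXne (rd_le r _ hy))
      set d := (x⁻¹ * (w * x * w)) ^ k
      set c := x * d with hc
      have hcR : c ∈ Rd r (E ⊔ C) := mul_mem hx (pow_mem hy k)
      have hcE : cj c E = E :=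
        hw1 _ (m.base.inv E hE c) (by rw [cj_cj, hk.symm.eq, ← cj_cj, hwE])
      have hcz := m.line_central hE hC (Ne.symm hCE) ⟨hE, le_sup_left⟩ hcR
        (m.centralizer_of_normalizer hX hXne ⟨hE, le_sup_left⟩ hcR hcE)
      refine ⟨c * c, mul_mem hcz hcz, ?_⟩
      have e1 : Commute c x := (mem_centralizer_iff.1 hcz x (rd_le r _ hx)).symm
      have e2 : w * x * w = c * d := by
        calc w * x * w = (w * c) * d⁻¹ * w := by rw [hc]; group
          _ = c * (w * d⁻¹ * w) := by rw [hk.symm.eq]; group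
          _ = c * (w * d * w)⁻¹ := by rw [mul_inv_rev, mul_inv_rev, hwi]; group
          _ = c * d := by rw [hinvk, inv_inv]
      rw [e2, show d = x⁻¹ * c by rw [hc]; group, (e1.inv_right.symm).eq, ← mul_assoc]
    obtain ⟨x, hx, hxe⟩ := m.exists_rep hX hXne ⟨hE, le_sup_left⟩ ⟨hC, le_sup_right⟩
    have huE : cj u E = E := by
      rw [hu, ← cj_cj, ← cj_cj, show cj g⁻¹ E = E by
        conv_lhs => rw [← hgE, cj_cj, inv_mul_cancel, cj_one], hEf, hgE]
    have hue1 : ∀ A ∈ D, cj u A = A → A = E := fun A hA hf => (hone' A hA hf).trans hgE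
    obtain ⟨z, hz, hze⟩ := hneg s h.1 (h.2 E hE hEf) hEf hone x hx
    obtain ⟨z', hz', hze'⟩ := hneg u hut.1 (hut.2 E hE huE) huE hue1 x hx
    have hw : ∀ c : G, c ∈ centralizer ((E ⊔ C : Subgroup G) : Set G) →
        cj c C = C := fun c hc => cj_eq_of_normalizer (centralizer_le_normalizer _
          (centralizer_le (SetLike.coe_subset_coe.2 (le_sup_right : C ≤ E ⊔ C)) hc))
    have huz : u * z * u ∈ centralizer ((E ⊔ C : Subgroup G) : Set G) := by
      refine mem_centralizer_iff.2 fun b hb => ?_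
      have hb' : u * b * u ∈ E ⊔ C := by
        have := conj_mem_cj (g := u) hb
        rwa [hinv u hut.1 huE hue1, inv_eq_of_mul_eq_one_right huu] at this
      have h3 := mem_centralizer_iff.1 hz _ hb'
      calc b * (u * z * u) = (u * u) * b * (u * z * u) := by rw [huu, one_mul]
        _ = u * ((u * b * u) * z) * u := by group
        _ = u * (z * (u * b * u)) * u := by rw [h3]
        _ = u * z * u * b * (u * u) := by group
        _ = u * z * u * b := by rw [huu, mul_one]
    have hvx : v * x * v⁻¹ = (u * z * u) * (x * z'⁻¹) := by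
      have hui : u⁻¹ = u := inv_eq_of_mul_eq_one_right huu
      have hsi : s⁻¹ = s := inv_eq_of_mul_eq_one_right hss
      have e0 : u * x⁻¹ * u = (u * x * u)⁻¹ := by
        calc u * x⁻¹ * u = u⁻¹ * x⁻¹ * u⁻¹ := by rw [hui]
          _ = (u * x * u)⁻¹ := by group
      calc v * x * v⁻¹ = u * (s * x * s⁻¹) * u⁻¹ := by rw [hv]; group
        _ = u * (s * x * s) * u := by rw [hui, hsi]
        _ = u * z * (u * u) * x⁻¹ * u := by rw [hze, huu]; group
        _ = (u * z * u) * (u * x⁻¹ * u) := by group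
        _ = _ := by rw [e0, hze', mul_inv_rev, inv_inv]
    calc cj v C = cj (v * x * v⁻¹) (cj v E) := by rw [hxe, cj_cj, cj_cj]; group
      _ = cj (u * z * u) (cj x (cj z'⁻¹ E)) := by
          rw [hv, ← cj_cj u s E, hEf, huE, ← hv, hvx, cj_cj, cj_cj]; group
      _ = cj (u * z * u) C := by
          rw [cj_eq_of_normalizer (centralizer_le_normalizer _ (centralizer_le
            (SetLike.coe_subset_coe.2 (le_sup_left : E ≤ E ⊔ C)) (inv_mem hz'))), hxe]
      _ = C := hw _ huz
  have hvE : v ∈ centralizer (E : Set G) := by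
    have huE : cj u E = E := by
      rw [hu, ← cj_cj, ← cj_cj, show cj g⁻¹ E = E by
        conv_lhs => rw [← hgE, cj_cj, inv_mul_cancel, cj_one], hEf, hgE]
    exact mul_mem (hut.2 E hE huE) (h.2 E hE hEf)
  have hvt := m.tc_of hv2 hE hvE
  refine hv1 (m.eq_one_of_hz ?_)
  rw [eq_top_iff, ← m.base.gen]
  exact sSup_le fun A hA => m.tc_le hvt hA (hall A hA)

end MC

end Cfsg.Agent.H73.Fis
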