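import Cfsg.Agent.H73.Fis.Invol
import Cfsg.Agent.Brauer.SectionColumns
import Cfsg.Agent.Brauer.Sections
import Cfsg.Agent.BlkChar.PModular
import Cfsg.Agent.Char.Orthogonality
import Cfsg.Agent.Char.Kernel
import Cfsg.Agent.Char.Virtual

/-!
# Groups generated by a line system have odd order
-/

set_option autoImplicit false
set_option linter.style.haveILetI false

namespace Cfsg.Agent.H73.Fis

open Subgroup
open scoped Pointwise commutatorElement ComplexConjugate

universe u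

variable {G : Type u} [Group G] [Finite G] {p r : ℕ} {D : Set (Subgroup G)}

/-- Averaging a character over a conjugacy class times a fixed element. -/
theorem sum_conj_mul [Fintype G] {χ : G → ℂ} (hχ : IsIrrCharacter G χ) (t a : G) :
    χ 1 * ∑ g : G, χ (g * t * g⁻¹ * a) = (Nat.card G : ℂ) * χ t * χ a := by
  obtain ⟨n, ρ, hρ, rfl⟩ := hχ
  haveI := hρ
  set T : (Fin n → ℂ) →ₗ[ℂ] (Fin n → ℂ) := ∑ g : G, ρ (g * t * g⁻¹) with hT
  have hcomm : ∀ h : G, T ∘ₗ ρ h = ρ h ∘ₗ T := by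
    intro h
    change T * ρ h = ρ h * T
    rw [hT, Finset.sum_mul, Finset.mul_sum]
    simp_rw [← map_mul]
    refine (Fintype.sum_equiv (Equiv.mulLeft h) _ _ fun g => ?_).symm
    show ρ (h * (g * t * g⁻¹)) = ρ (h * g * t * (h * g)⁻¹ * h)
    congr 1; group
  let F : ρ.IntertwiningMap ρ := ⟨T, hcomm⟩
  obtain ⟨c, hc⟩ :=
    (Representation.IsIrreducible.algebraMap_intertwiningMap_bijective_of_isAlgClosed (ρ := ρ)).2 F
  have hTc : T = c • (LinearMap.id : (Fin n → ℂ) →ₗ[ℂ] (Fin n → ℂ)) := by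
    have := congrArg Representation.IntertwiningMap.toLinearMap hc
    rw [Algebra.algebraMap_eq_smul_one] at this
    exact this.symm
  have htr : LinearMap.trace ℂ _ T = (Nat.card G : ℂ) * ρ.character t := by
    rw [hT, map_sum]
    have : ∀ g : G, LinearMap.trace ℂ _ (ρ (g * t * g⁻¹)) = ρ.character t := fun g => ρ.char_conj t g
    rw [Finset.sum_congr rfl fun g _ => this g, Finset.sum_const, nsmul_eq_mul, Finset.card_univ,
      Nat.card_eq_fintype_card]
  rw [hTc, map_smul, ← Module.End.one_eq_id, LinearMap.trace_one, smul_eq_mul] at htr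
  have hs : ∑ g : G, ρ.character (g * t * g⁻¹ * a) = c * ρ.character a := by
    have h1 : LinearMap.trace ℂ _ (T * ρ a) = ∑ g : G, ρ.character (g * t * g⁻¹ * a) := by
      rw [hT, Finset.sum_mul, map_sum]
      refine Finset.sum_congr rfl fun g _ => ?_
      rw [Representation.character, map_mul ρ (g * t * g⁻¹) a]
    rw [← h1, hTc, ← Module.End.one_eq_id, smul_mul_assoc, one_mul, map_smul]
    rfl
  rw [hs, ρ.char_one, ← htr]
  ring

namespace MC

/-- Elements defining the maximal subsystem attached to an involution. -/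
def Zs (r : ℕ) (D : Set (Subgroup G)) (s : G) : Set G :=
  {z | z ≠ 1 ∧ Commute z s ∧ ∃ X, IsSub D X ∧ z ∈ Zr r X ∧ ∃ E ∈ D, E ≤ X ∧ E ≤ Hz D s}

theorem zs_le (m : MC p r D) (c2 : Cls2 r D) {s : G} (h : TC D s) {z : G} (hz : z ∈ Zs r D s) :
    Hz D s ≤ Hz D z ∧ z ∈ Zr r (Hz D z) ∧ cj s (Hz D z) = Hz D z := by
  haveI := Fact.mk m.base.hr
  obtain ⟨hz1, hzs, X, hX, hzX, E, hE, hEX, hEY⟩ := hz
  have hXn : (pts D X).Nonempty := ⟨E, hE, hEX⟩
  have hKne := m.hz_ne_top hz1
  have hzK := (m.zr_kmax c2 hX hXn (m.hz_isSub z) hKne (m.le_hz_self hX hzX) hzX).1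
  have hzY : cj z (Hz D s) = Hz D s := by
    rw [cj_Hz m.base, hzs.eq, mul_inv_cancel_right]
  refine ⟨?_, hzK, by rw [cj_Hz m.base, hzs.symm.eq, mul_inv_cancel_right]⟩
  have hY := m.hz_isSub s
  have hs1 : s ≠ 1 := fun e => by have := h.1; rw [e, orderOf_one] at this; omega
  have hYne := m.hz_ne_top hs1
  have d := m.radData hY hYne
  have dK := m.radData (m.hz_isSub z) hKne
  obtain ⟨E1, hE1, B1, hB1, hne1, hE1Y, hB1Y⟩ := m.exists_two h
  set P := Rd r (Hz D s)
  have hWne : ¬ P ≤ Zr r (Hz D s) := by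
    intro hle
    have : ∀ A ∈ pts D (Hz D s), A = E := by
      intro A hA
      obtain ⟨x, hx, rfl⟩ := m.exists_rep hY hYne ⟨hE, hEY⟩ hA
      exact cj_eq_of_normalizer (centralizer_le_normalizer _
        (centralizer_le (SetLike.coe_subset_coe.2 hEY) (hle hx).2))
    exact hne1 ((this _ ⟨hE1, hE1Y⟩).trans (this _ ⟨hB1, hB1Y⟩).symm)
  have hzn : zpowers z ≤ normalizer (P : Set G) :=
    zpowers_le.2 (mem_normalizer_of_cj (by rw [cj_rd, hzY]))
  have hQ : IsPGroup r ↥(P ⊔ zpowers z : Subgroup G) :=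
    IsPGroup.to_sup_of_normal_left' d.pg (dK.pg.to_le (zpowers_le.2 hzK.1)) hzn
  obtain ⟨v, hv, hvW, hfix⟩ := exists_fixed_coset (W := Zr r (Hz D s)) hQ inf_le_left hWne hzn
  have hζ := hfix z (mem_zpowers z)
  obtain ⟨a, ha, ha1⟩ := m.base.exists_ne_one hE
  have hza : Commute a z := mem_centralizer_iff.1 hzX.2 a (hEX ha)
  set B := cj v E with hB
  have hBY : B ≤ Hz D s := cj_le_of_mem hEY (rd_le r _ hv)
  have hb : v * a * v⁻¹ ∈ B := conj_mem_cj ha
  have hBD : B ∈ D := m.base.inv E hE v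
  have hBz : B ≤ Hz D z := by
    refine le_sSup ⟨hBD, ?_⟩
    rw [m.base.eq_zpowers hBD hb
      (fun e => ha1 (by simpa using e)), zpowers_le, mem_centralizer_singleton_iff]
    have e1 := mem_centralizer_iff.1 hζ.2 _ (hBY hb)
    calc v * a * v⁻¹ * z = z * ((z⁻¹ * v * z) * (z⁻¹ * a * z) * (z⁻¹ * v * z)⁻¹) := by group
      _ = z * ((z⁻¹ * v * z) * a * (z⁻¹ * v * z)⁻¹) := by
          rw [show z⁻¹ * a * z = a by rw [mul_assoc, hza.eq, inv_mul_cancel_left]]
      _ = z * v * a * v⁻¹ := by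
          have e2 : z⁻¹ * v * z = (z⁻¹ * ⁅v, z⁆ * z) * v := by
            rw [commutatorElement_def]; group
          have e3 : z⁻¹ * ⁅v, z⁆ * z ∈ Zr r (Hz D s) := by
            have := conj_mem_cj (g := z⁻¹) hζ
            rwa [cj_zr, inv_inv, cj_Hz m.base, inv_inv,
              show z⁻¹ * s * z = s by rw [mul_assoc, ← hzs.eq, inv_mul_cancel_left]] at this
          have e4 := mem_centralizer_iff.1 e3.2 _ (hBY hb)
          rw [e2]
          generalize z⁻¹ * ⁅v, z⁆ * z = c at e4 ⊢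
          calc z * (c * v * a * (c * v)⁻¹) = z * ((c * (v * a * v⁻¹)) * c⁻¹) := by group
            _ = z * ((v * a * v⁻¹) * c * c⁻¹) := by rw [e4]
            _ = z * v * a * v⁻¹ := by group
      _ = z * (v * a * v⁻¹) := by group
  refine m.inter_lemma c2 hX hXn hz1 hzX hY hYne hzY (E := E) (B := B) ?_ ⟨hE, hEY⟩
    ⟨m.base.inv E hE v, hBY⟩ ((hEX.trans (m.le_hz_self hX hzX))) hBz
  intro he
  have := m.centralizer_of_normalizer hY hYne ⟨hE, hEY⟩ hv he.symm
  exact hvW ⟨hv, (c2 _ hY (m.sub _ hY hYne) E ⟨hE, hEY⟩).1 v hv this⟩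

theorem zs_unique (m : MC p r D) (c2 : Cls2 r D) {s : G} (h : TC D s) {z z' : G}
    (hz : z ∈ Zs r D s) (hz' : z' ∈ Zs r D s) : Hz D z' ≤ Hz D z := by
  haveI := Fact.mk m.base.hr
  obtain ⟨hYK, hzK, hsK⟩ := m.zs_le c2 h hz
  obtain ⟨hYK', hzK', hsK'⟩ := m.zs_le c2 h hz'
  set Y := Hz D s with hYdef
  set K := Hz D z with hKdef
  have hY := m.hz_isSub s
  have hK := m.hz_isSub z
  have hKne := m.hz_ne_top hz.1
  have hKn : (pts D K).Nonempty := by
    obtain ⟨E1, hE1, -, -, -, hE1Y, -⟩ := m.exists_two h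
    exact ⟨E1, hE1, hE1Y.trans hYK⟩
  obtain ⟨E1, hE1, B1, hB1, hne1, hE1Y, hB1Y⟩ := m.exists_two h
  have hYne : Y ≠ ⊤ := fun e => hKne (top_le_iff.1 (e.ge.trans hYK))
  have dK := m.radData hK hKne
  have dY := m.radData hY hYne
  have hcl := c2 K hK (m.sub K hK hKne) E1 ⟨hE1, hE1Y.trans hYK⟩
  have hRY : Rd r Y ≤ Rd r K := m.rd_mono hK hKne hY hYK
  have hss := h.sq
  have hsi : s⁻¹ = s := inv_eq_of_mul_eq_one_right hss
  have hcomm : ∀ x ∈ Rd r K, ∀ y ∈ Rd r K, ⁅x, y⁆ ∈ Zr r K := fun x hx y hy => by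
    have h1 : ⁅x, y⁆ ∈ Rd r K := by
      rw [commutatorElement_def]
      exact mul_mem (mul_mem (mul_mem hx hy) (inv_mem hx)) (inv_mem hy)
    exact ⟨h1, hcl.1 _ h1 (hcl.2 x hx y hy)⟩
  by_cases hg : ∃ y ∈ Rd r Y, ∃ v ∈ Rd r K, s * ⁅y, v⁆ * s ≠ ⁅y, v⁆
  · obtain ⟨y, hy, v, hv, hne⟩ := hg
    set g := ⁅y, v⁆ with hgdef
    have hgK : g ∈ Zr r K := hcomm y (hRY hy) v hv
    have hgY : cj g Y = Y := cj_eq_of_normalizer (centralizer_le_normalizer _
      (centralizer_le (SetLike.coe_subset_coe.2 hYK) hgK.2))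
    set u := g * s * g⁻¹ with hu
    have hut := m.tc_conj h g
    have huK' : cj u (Hz D z') = Hz D z' := m.sub_invariant hut (m.hz_isSub z') (by
      rw [← cj_Hz m.base, hgY]; exact hYK')
    set w := u * s with hw
    have hwK : w ∈ Zr r K := by
      have h1 : s * g⁻¹ * s ∈ Zr r K := by
        have := conj_mem_cj (g := s) (inv_mem hgK)
        rwa [cj_zr, hsK, hsi] at this
      rw [hw, hu, show g * s * g⁻¹ * s = g * (s * g⁻¹ * s) by group]
      exact mul_mem hgK h1
    have hw1 : w ≠ 1 := by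
      intro e
      have e1 : u = s := by
        calc u = u * (s * s) := by rw [hss, mul_one]
          _ = w * s := by rw [hw]; group
          _ = s := by rw [e, one_mul]
      refine hne ?_
      calc s * g * s = (g * s * g⁻¹) * g * s := by rw [← hu, e1]
        _ = g := by rw [inv_mul_cancel_right, mul_assoc, hss, mul_one]
    have hwK' : cj w (Hz D z') = Hz D z' := by rw [hw, ← cj_cj, hsK', huK']
    have := m.inter_lemma c2 hK hKn hw1 hwK (m.hz_isSub z') (m.hz_ne_top hz'.1) hwK' hne1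
      ⟨hE1, hE1Y.trans hYK'⟩ ⟨hB1, hB1Y.trans hYK'⟩
      ((hE1Y.trans hYK).trans (m.le_hz_self hK hwK))
      ((hB1Y.trans hYK).trans (m.le_hz_self hK hwK))
    obtain ⟨hz1, -, X, hX, hzX, E, hE, hEX, -⟩ := hz
    rwa [m.hz_eq c2 hX ⟨E, hE, hEX⟩ (z := z) hz1 hzX hw1 hwK] at this
  push Not at hg
  -- in the other case both maximal subsystems normalise the radical of `Y`
  have key : ∀ {w : G}, w ∈ Zs r D s →
      (∀ y ∈ Rd r Y, ∀ v ∈ Rd r (Hz D w), s * ⁅y, v⁆ * s = ⁅y, v⁆) →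
      Hz D w ≤ normalizer ((Rd r Y : Subgroup G) : Set G) := by
    intro w hw hfixg
    obtain ⟨hYM, hwM, hsM⟩ := m.zs_le c2 h hw
    set M := Hz D w
    have hM := m.hz_isSub w
    have hMne := m.hz_ne_top hw.1
    have dM := m.radData hM hMne
    refine le_trans (dM.sup E1 ⟨hE1, hE1Y.trans hYM⟩).ge ?_
    refine sup_le (fun v hv => ?_) (hE1Y.trans dY.norm)
    have hyv : v⁻¹ * (s * v * s) ∈ Rd r M := by
      refine mul_mem (inv_mem hv) ?_
      have := conj_mem_cj (g := s) hv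
      rwa [cj_rd, hsM, hsi] at this
    obtain ⟨k, hk, hinv⟩ := exists_fixed_mul hss (m.odd_order hM hMne (rd_le r _ hyv))
    set d := (v⁻¹ * (s * v * s)) ^ k
    have hd : d ∈ Rd r M := pow_mem hyv k
    have hclM := c2 M hM (m.sub M hM hMne) E1 ⟨hE1, hE1Y.trans hYM⟩
    have hRYM : Rd r Y ≤ Rd r M := m.rd_mono hM hMne hY hYM
    -- the fixed part
    have hc : v * d ∈ normalizer ((Rd r Y : Subgroup G) : Set G) := by
      set c := v * d
      have hcR : c ∈ Rd r M := mul_mem hv hd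
      have hf : cj s (cj c E1) = cj c E1 := by
        rw [cj_cj, hk.symm.eq, ← cj_cj, m.fixed_of_le hE1Y]
      obtain ⟨i, hi, hie⟩ := m.exists_rep hY hYne ⟨hE1, hE1Y⟩
        ⟨m.base.inv E1 hE1 c, m.tc_le h (m.base.inv E1 hE1 c) hf⟩
      have h1 : cj (i⁻¹ * c) E1 = E1 := by rw [← cj_cj, hie, cj_cj, inv_mul_cancel, cj_one]
      have h2 : i⁻¹ * c ∈ Rd r M := mul_mem (inv_mem (hRYM hi)) hcR
      have h3 := hclM.1 _ h2 (m.centralizer_of_normalizer hM hMne ⟨hE1, hE1Y.trans hYM⟩ h2 h1)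
      have h4 : i⁻¹ * c ∈ normalizer ((Rd r Y : Subgroup G) : Set G) :=
        centralizer_le_normalizer _ (centralizer_le
          (SetLike.coe_subset_coe.2 ((rd_le r Y).trans hYM)) h3)
      have h5 := mul_mem (le_normalizer hi) h4
      rwa [mul_inv_cancel_left] at h5
    -- the inverted part
    have hdn : d ∈ normalizer ((Rd r Y : Subgroup G) : Set G) := by
      refine centralizer_le_normalizer _ (mem_centralizer_iff.2 fun y hy => ?_)
      have hgz : ⁅y, d⁆ ∈ centralizer (M : Set G) := by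
        have h1 : ⁅y, d⁆ ∈ Rd r M := by
          rw [commutatorElement_def]
          exact mul_mem (mul_mem (mul_mem (hRYM hy) hd) (inv_mem (hRYM hy))) (inv_mem hd)
        exact hclM.1 _ h1 (hclM.2 y (hRYM hy) d hd)
      have hys : s * y * s = y := by
        have h2 : y * s = s * y :=
          mem_centralizer_singleton_iff.1 (le_centralizer_of_le_hz le_rfl (rd_le r Y hy))
        rw [mul_assoc, h2, ← mul_assoc, hss, one_mul]
      have hys' : s * y⁻¹ * s = y⁻¹ := by
        calc s * y⁻¹ * s = (s⁻¹ * y * s⁻¹)⁻¹ := by group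
          _ = y⁻¹ := by rw [hsi, hys]
      have hinv' : s * d⁻¹ * s = d := by
        calc s * d⁻¹ * s = (s⁻¹ * d * s⁻¹)⁻¹ := by group
          _ = d := by rw [hsi, hinv, inv_inv]
      have e1 : s * ⁅y, d⁆ * s = ⁅y, d⁻¹⁆ := by
        calc s * ⁅y, d⁆ * s = (s * y * s) * (s * d * s) * (s * y⁻¹ * s) * (s * d⁻¹ * s) := by
              rw [commutatorElement_def]
              simp only [mul_assoc]
              simp only [← mul_assoc s s, hss, one_mul]
          _ = ⁅y, d⁻¹⁆ := by rw [hys, hinv, hys', hinv', commutatorElement_def, inv_inv]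
      have e2 : ⁅y, d⁻¹⁆ = ⁅y, d⁆⁻¹ := by
        have e3 := mem_centralizer_iff.1 hgz d (rd_le r M hd)
        have e4 : ⁅y, d⁻¹⁆ = d⁻¹ * ⁅y, d⁆⁻¹ * d := by simp only [commutatorElement_def]; group
        rw [e4]
        have e7 : Commute ⁅y, d⁆ d := e3.symm
        rw [mul_assoc, e7.inv_left.eq, inv_mul_cancel_left]
      have e5 := (hfixg y hy d hd).symm.trans (e1.trans e2)
      have e6 : ⁅y, d⁆ ^ 2 = 1 := by
        rw [pow_two]
        nth_rewrite 1 [e5]
        exact inv_mul_cancel _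
      have e7 : Odd (orderOf ⁅y, d⁆) := by
        refine m.odd_order hM hMne ?_
        rw [commutatorElement_def]
        exact mul_mem (mul_mem (mul_mem (hYM (rd_le r Y hy)) (rd_le r M hd))
          (inv_mem (hYM (rd_le r Y hy)))) (inv_mem (rd_le r M hd))
      have e8 : orderOf ⁅y, d⁆ = 1 := by
        rcases (Nat.dvd_prime Nat.prime_two).1 (orderOf_dvd_of_pow_eq_one e6) with e | e
        · exact e
        · rw [e] at e7; exact absurd e7 (by decide)
      exact commutatorElement_eq_one_iff_mul_comm.1 (orderOf_eq_one_iff.1 e8)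
    have := mul_mem hc (inv_mem hdn)
    rwa [mul_inv_cancel_right] at this
  by_cases hg' : ∃ y ∈ Rd r Y, ∃ v ∈ Rd r (Hz D z'), s * ⁅y, v⁆ * s ≠ ⁅y, v⁆
  · -- the first case with the roles exchanged
    obtain ⟨y, hy, v, hv, hne⟩ := hg'
    have hne' : ¬ ∀ y ∈ Rd r Y, ∀ v ∈ Rd r (Hz D z'), s * ⁅y, v⁆ * s = ⁅y, v⁆ :=
      fun hh => hne (hh y hy v hv)
    have hK'ne := m.hz_ne_top hz'.1
    have hcl' := c2 _ (m.hz_isSub z') (m.sub _ (m.hz_isSub z') hK'ne) E1 ⟨hE1, hE1Y.trans hYK'⟩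
    have hRY' : Rd r Y ≤ Rd r (Hz D z') := m.rd_mono (m.hz_isSub z') hK'ne hY hYK'
    set g := ⁅y, v⁆ with hgdef
    have hgR : g ∈ Rd r (Hz D z') := by
      rw [hgdef, commutatorElement_def]
      exact mul_mem (mul_mem (mul_mem (hRY' hy) hv) (inv_mem (hRY' hy))) (inv_mem hv)
    have hgK : g ∈ Zr r (Hz D z') := ⟨hgR, hcl'.1 _ hgR (hcl'.2 y (hRY' hy) v hv)⟩
    have hgY : cj g Y = Y := cj_eq_of_normalizer (centralizer_le_normalizer _
      (centralizer_le (SetLike.coe_subset_coe.2 hYK') hgK.2))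
    set u := g * s * g⁻¹ with hu
    have hut := m.tc_conj h g
    have huK : cj u K = K := m.sub_invariant hut hK (by
      rw [← cj_Hz m.base, hgY]; exact hYK)
    set w := u * s with hw
    have hwK : w ∈ Zr r (Hz D z') := by
      have h1 : s * g⁻¹ * s ∈ Zr r (Hz D z') := by
        have := conj_mem_cj (g := s) (inv_mem hgK)
        rwa [cj_zr, hsK', hsi] at this
      rw [hw, hu, show g * s * g⁻¹ * s = g * (s * g⁻¹ * s) by group]
      exact mul_mem hgK h1
    have hw1 : w ≠ 1 := by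
      intro e
      have e1 : u = s := by
        calc u = u * (s * s) := by rw [hss, mul_one]
          _ = w * s := by rw [hw]; group
          _ = s := by rw [e, one_mul]
      refine hne ?_
      calc s * g * s = (g * s * g⁻¹) * g * s := by rw [← hu, e1]
        _ = g := by rw [inv_mul_cancel_right, mul_assoc, hss, mul_one]
    have hwK2 : cj w K = K := by rw [hw, ← cj_cj, hsK, huK]
    have hK'n : (pts D (Hz D z')).Nonempty := ⟨E1, hE1, hE1Y.trans hYK'⟩
    have := m.inter_lemma c2 (m.hz_isSub z') hK'n hw1 hwK hK hKne hwK2 hne1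
      ⟨hE1, hE1Y.trans hYK⟩ ⟨hB1, hB1Y.trans hYK⟩
      ((hE1Y.trans hYK').trans (m.le_hz_self (m.hz_isSub z') hwK))
      ((hB1Y.trans hYK').trans (m.le_hz_self (m.hz_isSub z') hwK))
    obtain ⟨hz'1, -, X, hX, hzX, E, hE, hEX, -⟩ := hz'
    rw [m.hz_eq c2 hX ⟨E, hE, hEX⟩ hz'1 hzX hw1 hwK] at this
    exact (m.zr_kmax c2 hK hKn (m.hz_isSub z') hK'ne this hzK).2
  push Not at hg'
  have hn1 := key hz hg
  have hn2 := key hz' hg'
  have hYsol : Group.IsSolvable (Rd r Y) := by haveI := dY.pg.isNilpotent; infer_instance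
  have hY1 : Rd r Y ≠ ⊥ := by
    intro hb
    obtain ⟨x, hx, hxe⟩ := m.exists_rep hY hYne ⟨hE1, hE1Y⟩ ⟨hB1, hB1Y⟩
    rw [hb, Subgroup.mem_bot] at hx
    rw [hx, cj_one] at hxe
    exact hne1 hxe.symm
  have hJle : ∀ w : G, Hz D w ≤ normalizer ((Rd r Y : Subgroup G) : Set G) →
      Hz D w ≤ Jset D (Rd r Y) := fun w hw =>
    (m.hz_isSub w).le_of_pts fun C hC => le_sSup ⟨hC.1, hC.2.trans hw⟩
  exact (hJle z' hn2).trans (m.zr_kmax c2 hK hKn (isSub_sSup D fun _ hh => hh.1)
    (m.jset_ne_top hYsol hY1) (hJle z hn1) hzK).2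

/-- The normal odd subgroup of the centraliser of `s`. -/
theorem exists_V (m : MC p r D) {s : G} (h : TC D s) :
    ∃ V : Subgroup G, V ≤ centralizer ({s} : Set G) ∧
      (∀ c ∈ centralizer ({s} : Set G), ∀ v ∈ V, c * v * c⁻¹ ∈ V) ∧ ¬ 2 ∣ Nat.card V ∧
      (∀ v ∈ Hz D s, Commute v s → v ∈ V) ∧
      ∀ A ∈ D, ∀ B ∈ D, A ≠ B → ∀ E ∈ D, E ≤ A ⊔ B → E ≤ Hz D s → ∀ x ∈ Rd r (A ⊔ B),
        x ∈ centralizer (E : Set G) → Commute x s → x ∈ V := by
  suffices ∃ M : Subgroup G, IsSub D M ∧ M ≠ ⊤ ∧ Hz D s ≤ M ∧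
      (∀ c ∈ centralizer ({s} : Set G), cj c M = M) ∧
      ∀ A ∈ D, ∀ B ∈ D, A ≠ B → ∀ E ∈ D, E ≤ A ⊔ B → E ≤ Hz D s → ∀ x ∈ Rd r (A ⊔ B),
        x ∈ centralizer (E : Set G) → Commute x s → x ∈ M by
    obtain ⟨M, hM, hMne, hYM, hinv, hprop⟩ := this
    refine ⟨M ⊓ centralizer ({s} : Set G), inf_le_right, fun c hc v hv => ⟨?_, ?_⟩, ?_,
      fun v hv hvs => ⟨hYM hv, mem_centralizer_singleton_iff.2 hvs.eq⟩,
      fun A hA B hB hne E hE hEle hEY x hx hxc hxs =>
        ⟨hprop A hA B hB hne E hE hEle hEY x hx hxc hxs, mem_centralizer_singleton_iff.2 hxs.eq⟩⟩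
    · rw [← hinv c hc]; exact conj_mem_cj hv.1
    · exact (centralizer ({s} : Set G)).mul_mem ((centralizer ({s} : Set G)).mul_mem hc hv.2)
        ((centralizer ({s} : Set G)).inv_mem hc)
    · intro h2
      exact (Nat.not_even_iff_odd.2 (m.odd_card hM hMne))
        (even_iff_two_dvd.2 (h2.trans (card_dvd_of_le inf_le_left)))
  have hs1 : s ≠ 1 := fun e => by have := h.1; rw [e, orderOf_one] at this; omega
  have hY := m.hz_isSub s
  have hYne := m.hz_ne_top hs1
  have hYinv : ∀ c ∈ centralizer ({s} : Set G), cj c (Hz D s) = Hz D s := fun c hc => by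
    rw [cj_Hz m.base, mem_centralizer_singleton_iff.1 hc, mul_inv_cancel_right]
  rcases m.cls with c2 | ⟨hno, -⟩
  · by_cases hZ : ∃ z, z ∈ Zs r D s
    · obtain ⟨z0, hz0⟩ := hZ
      obtain ⟨hYK, hzK, -⟩ := m.zs_le c2 h hz0
      refine ⟨Hz D z0, m.hz_isSub z0, m.hz_ne_top hz0.1, hYK, fun c hc => ?_, ?_⟩
      · rw [cj_Hz m.base]
        have hmem : c * z0 * c⁻¹ ∈ Zs r D s := by
          obtain ⟨hz1, hzs, X, hX, hzX, E, hE, hEX, hEY⟩ := hz0
          refine ⟨fun e => hz1 (by simpa using e), ?_, cj c X, m.base.isSub_cj hX, ?_,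
            cj c E, m.base.inv E hE c, cj_mono hEX, ?_⟩
          · have hcs : Commute c s := mem_centralizer_singleton_iff.1 hc
            exact (hcs.mul_left hzs).mul_left hcs.inv_left
          · rw [← cj_zr]; exact conj_mem_cj hzX
          · rw [← hYinv c hc]; exact cj_mono hEY
        exact le_antisymm (m.zs_unique c2 h hz0 hmem) (m.zs_unique c2 h hmem hz0)
      · intro A hA B hB hne E hE hEle hEY x hx hxc hxs
        rcases eq_or_ne x 1 with rfl | hx1
        · exact one_mem _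
        have hxz : x ∈ Zr r (A ⊔ B) := ⟨hx, m.line_central hA hB hne ⟨hE, hEle⟩ hx hxc⟩
        have hX := (m.line_isSub hA hB).1
        have hmem : x ∈ Zs r D s := ⟨hx1, hxs, A ⊔ B, hX, hxz, E, hE, hEle, hEY⟩
        exact m.zs_unique c2 h hz0 hmem (m.le_hz_self hX hxz (rd_le r _ hx))
    · refine ⟨Hz D s, hY, hYne, le_rfl, hYinv, ?_⟩
      intro A hA B hB hne E hE hEle hEY x hx hxc hxs
      rcases eq_or_ne x 1 with rfl | hx1
      · exact one_mem _
      have hxz : x ∈ Zr r (A ⊔ B) := ⟨hx, m.line_central hA hB hne ⟨hE, hEle⟩ hx hxc⟩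
      exact absurd ⟨x, hx1, hxs, A ⊔ B, (m.line_isSub hA hB).1, hxz, E, hE, hEle, hEY⟩ hZ
  · refine ⟨Hz D s, hY, hYne, le_rfl, hYinv, ?_⟩
    intro A hA B hB hne E hE hEle hEY x hx hxc _
    obtain ⟨hX, hXne⟩ := m.line_isSub hA hB
    have hr' := isR_of_pgroup (m.radData hX hXne).pg hx
    rcases eq_or_ne E A with rfl | hEA
    · rw [hno E hA B hB hne x (rd_le r _ hx) hr' hxc]; exact one_mem _
    · have heq := m.base.eq A hA B hB E hE hne hEA hEle
      rw [hno E hE A hA hEA x (by rw [sup_comm, heq]; exact rd_le r _ hx) hr' hxc]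
      exact one_mem _

/-- Principal `2`-block characters agree on `s a` and `s`. -/
theorem char_mul (m : MC p r D) [Fintype G] {M : Ideal AlgInt} (hM : IsPModular 2 M) {s : G}
    (h : TC D s) {χ : IrrCharacter G} (hχ : χ ∈ principalBlock M G) {A : Subgroup G} (hA : A ∈ D)
    {a : G} (ha : a ∈ A) : (χ : G → ℂ) (s * a) = (χ : G → ℂ) s := by
  haveI := Fact.mk m.base.hr
  obtain ⟨V, hVC, hVn, hV2, hVY, hVX⟩ := m.exists_V h
  have hconst : ∀ v ∈ V, (χ : G → ℂ) (s * v) = (χ : G → ℂ) s := fun v hv =>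
    Brauer.principalBlock_apply_mul hM (u := s) (k := 1) (by rw [h.1]; rfl) V hVC hVn hV2 hχ hv
  have hss := h.sq
  have hsi : s⁻¹ = s := inv_eq_of_mul_eq_one_right hss
  by_cases hne : cj s A = A
  · exact hconst a (hVY a (m.tc_le h hA hne ha) (mem_centralizer_iff.1 (h.2 A hA hne) a ha))
  set X := A ⊔ cj s A with hXdef
  have hA' := m.base.inv A hA s
  obtain ⟨hX, hXne⟩ := m.line_isSub hA hA'
  have hXinv : cj s X = X := by
    rw [hXdef, cj, Subgroup.map_sup]
    show cj s A ⊔ cj s (cj s A) = _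
    rw [cj_cj, hss, cj_one, sup_comm]
  have hk0 : s * a * s ∈ X := by
    have := conj_mem_cj (g := s) ha
    rw [hsi] at this
    exact mem_sup_right this
  obtain ⟨x, hx, -, -, hcomm, hmem⟩ := exists_twist h.1 (m.odd_card hX hXne) (m.sub X hX hXne)
    (mem_normalizer_of_cj hXinv) hk0 (rfl : s * a * s * s = s * a * s * s)
  rw [show s * a * s * s = s * a by rw [mul_assoc, hss, mul_one]] at hcomm hmem
  set w := x⁻¹ * (s * a) * x with hw
  set k := w * s with hk
  have hks : Commute k s := hcomm.mul_left (Commute.refl s)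
  have hsk : s * k = w := by rw [← hks.eq, hk, mul_assoc, hss, mul_one]
  have hχw : (χ : G → ℂ) (s * a) = (χ : G → ℂ) (s * k) := by
    rw [hsk]
    refine Char.isClassFunction_eq_of_isConj (Char.irr_isClassFunction χ.2) ?_
    exact isConj_iff.2 ⟨x⁻¹, by rw [hw, inv_inv]⟩
  rw [hχw]
  refine hconst k ?_
  obtain ⟨E, hE, hEle, hEf⟩ := m.exists_fixed_pt h.1 hA hne
  have hEY := m.tc_le h hE hEf
  by_cases huniq : ∃ B ∈ D, B ≤ X ∧ B ≠ E ∧ cj s B = B
  · obtain ⟨B, hB, hBle, hBE, hBf⟩ := huniq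
    refine hVY k ?_ hks
    rcases eq_or_ne E A with rfl | hEA
    · exact absurd hEf hne
    have h1 := m.base.eq A hA _ hA' E hE (Ne.symm hne) hEA hEle
    -- `X` is generated by the two fixed members
    have h2 : A ⊔ E = X := h1
    have h3 : E ⊔ B = X := by
      rw [← h2, sup_comm A E]
      exact m.base.eq E hE A hA B hB hEA hBE (by rw [sup_comm, h2]; exact hBle)
    exact (h3 ▸ sup_le hEY (m.tc_le h hB hBf)) hmem
  push Not at huniq
  have d := m.radData hX hXne
  have hkX : k ∈ E ⊔ Rd r X := by rw [sup_comm, d.sup E ⟨hE, hEle⟩]; exact hmem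
  rw [← SetLike.mem_coe,
    Subgroup.coe_mul_of_left_le_normalizer_right E (Rd r X) (hEle.trans d.norm)] at hkX
  obtain ⟨e, he, x0, hx0, hkex⟩ := hkX
  have hes : Commute e s := mem_centralizer_iff.1 (h.2 E hE hEf) e he
  have hx0s : Commute x0 s := by
    have : x0 = e⁻¹ * k := by rw [← hkex]; group
    rw [this]; exact hes.inv_left.mul_left hks
  have hx0E : cj x0 E = E := by
    by_contra hne'
    exact huniq _ (m.base.inv E hE x0) (cj_le_of_mem hEle (rd_le r _ hx0)) hne'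
      (by rw [cj_cj, hx0s.symm.eq, ← cj_cj, hEf])
  rw [← hkex]
  exact mul_mem (hVY e (hEY he) hes) (hVX A hA _ hA' (Ne.symm hne) E hE hEle hEY x0 hx0
    (m.centralizer_of_normalizer hX hXne ⟨hE, hEle⟩ hx0 hx0E) hx0s)

theorem false (m : MC p r D) : False := by
  classical
  haveI := Fintype.ofFinite G
  haveI := Fact.mk Nat.prime_two
  obtain ⟨M, hM⟩ := BlkChar.exists_isPModular 2 Nat.prime_two
  haveI : M.IsPrime := hM.2.1.isPrime
  obtain ⟨t, ht⟩ := m.exists_tc
  set C := centralizer ({t} : Set G)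
  haveI := Fintype.ofFinite C
  have hpp : Element.pPart 2 (1 : G) = 1 := by
    have := (Brauer.orderOf_mul_coprime_parts (p := 2) (u := (1 : G)) (y := 1) (k := 0) (by simp)
      (by simp) (Commute.one_left 1)).1
    rwa [mul_one] at this
  have h0 := Brauer.principal_column_eq_zero hM (u := t) (g := 1) (k := 1) (by rw [ht.1]; rfl) C rfl
    1 (by simp) (by
      rw [hpp, isConj_one_left]
      intro e
      have := ht.1; rw [e, orderOf_one] at this; omega)
  rw [Subgroup.coe_one, mul_one] at h0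
  have htriv : Char.trivialIrr G ∈ principalBlock M G := Block.mem_blockOf_self (Char.trivialIrr G)
  obtain ⟨χ, hχ, hχ1, hχt⟩ : ∃ χ : IrrCharacter G, χ ∈ principalBlock M G ∧
      χ ≠ Char.trivialIrr G ∧ (χ : G → ℂ) t ≠ 0 := by
    by_contra hcon
    push Not at hcon
    rw [finsum_mem_eq_toFinset_sum,
      Finset.sum_eq_single (Char.trivialIrr G) (fun ζ hζ hne => by
        rw [hcon ζ ((Set.mem_toFinset).1 hζ) hne, zero_mul])
        (fun hh => absurd ((Set.mem_toFinset).2 htriv) hh)] at h0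
    simp [Char.trivialIrr] at h0
  have hker : ∀ A ∈ D, ∀ a ∈ A, (χ : G → ℂ) a = (χ : G → ℂ) 1 := by
    intro A hA a ha
    have h1 := sum_conj_mul χ.2 t a
    have h2 : ∀ g : G, (χ : G → ℂ) (g * t * g⁻¹ * a) = (χ : G → ℂ) t := fun g => by
      rw [m.char_mul hM (m.tc_conj ht g) hχ hA ha]
      exact (Char.isClassFunction_eq_of_isConj (Char.irr_isClassFunction χ.2)
        (isConj_iff.2 ⟨g, rfl⟩)).symm
    rw [Finset.sum_congr rfl fun g _ => h2 g, Finset.sum_const, nsmul_eq_mul, Finset.card_univ,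
      ← Nat.card_eq_fintype_card] at h1
    have hcard : (Nat.card G : ℂ) ≠ 0 := Nat.cast_ne_zero.2 Nat.card_pos.ne'
    have h3 : (Nat.card G : ℂ) * (χ : G → ℂ) t * ((χ : G → ℂ) a - (χ : G → ℂ) 1) = 0 := by
      linear_combination -h1
    rcases mul_eq_zero.1 h3 with h4 | h4
    · exact absurd h4 (mul_ne_zero hcard hχt)
    · exact sub_eq_zero.1 h4
  obtain ⟨K, -, hK⟩ := Char.isCharacter_exists_kernel (Char.isCharacter_of_irr χ.2)
  have htop : ∀ g : G, (χ : G → ℂ) g = (χ : G → ℂ) 1 := by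
    intro g
    rw [← hK]
    have : (⊤ : Subgroup G) ≤ K := by
      rw [← m.base.gen]
      exact sSup_le fun A hA a ha => (hK a).2 (hker A hA a ha)
    exact this (mem_top g)
  refine hχ1 ?_
  have h5 := Char.classInner_irr_ne χ.2 (Char.trivialIrr G).2 fun e => hχ1 (Subtype.ext e)
  exfalso
  have h6 : ∑ g : G, (χ : G → ℂ) g * conj ((Char.trivialIrr G : G → ℂ) g) =
      (Nat.card G : ℂ) * Cfsg.classInner (χ : G → ℂ) (Char.trivialIrr G : G → ℂ) :=
    Char.sum_mul_conj_eq_card_mul_classInner _ _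
  rw [h5, mul_zero, Finset.sum_congr rfl fun g _ => by rw [htop g]] at h6
  simp [Char.trivialIrr] at h6
  exact Char.irr_one_ne_zero χ.2 h6

end MC

/-! ### Induction -/

theorem exists_lift_pow {P : Subgroup G} {y a : G} (hy : y ∈ P)
    (ha : a ∈ normalizer (P : Set G)) (n : ℕ) : ∃ y' ∈ P, (y * a) ^ n = y' * a ^ n := by
  induction n with
  | zero => exact ⟨1, one_mem _, by simp⟩
  | succ n ih =>
    obtain ⟨y', hy', he⟩ := ih
    refine ⟨y' * (a ^ n * y * (a ^ n)⁻¹), mul_mem hy'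
      ((Subgroup.mem_normalizer_iff.1 (pow_mem ha n) y).1 hy), ?_⟩
    rw [pow_succ, he, pow_succ]; group

/-- Lifting an `r`-element centralising the image of a member. -/
theorem exists_lift {H : Type u} [Group H] [Finite H] (h : Base p r D) (f : G →* H)
    {X P A : Subgroup G} (hA : A ∈ D) (hP : IsPGroup r P) (hn : A ≤ normalizer (P : Set G))
    (hsup : P ⊔ A = X) {x : H} (hx : x ∈ X.map f) (hxr : IsR r x) :
    ∃ y ∈ P, f y = x ∧ (x ∈ centralizer ((A.map f : Subgroup H) : Set H) →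
      ∃ y' ∈ P, f y' = x ∧ y' ∈ centralizer (A : Set G)) := by
  haveI := Fact.mk h.hr
  haveI := Fact.mk h.hp
  obtain ⟨g, hg, rfl⟩ := hx
  rw [← hsup, sup_comm, Subgroup.coe_mul_of_left_le_normalizer_right A P hn] at hg
  obtain ⟨a, ha, y0, hy0, rfl⟩ := hg
  obtain ⟨k, hk⟩ := hxr
  simp only at hk ⊢
  replace hy0 : y0 ∈ P := hy0
  have hy : a * y0 * a⁻¹ ∈ P := (Subgroup.mem_normalizer_iff.1 (hn ha) y0).1 hy0
  have e : a * y0 = a * y0 * a⁻¹ * a := by group
  obtain ⟨y', hy', he⟩ := exists_lift_pow hy (hn ha) (r ^ k)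
  rw [e, ← map_pow, he, map_mul] at hk
  have hfa : f a = 1 := by
    have h1 : f (a ^ r ^ k) = f y'⁻¹ := by rw [map_inv]; exact eq_inv_of_mul_eq_one_right hk
    have hpow : a ^ p = 1 := by
      rw [← h.card A hA]; exact orderOf_dvd_iff_pow_eq_one.1 (Subgroup.orderOf_dvd_natCard A ha)
    obtain ⟨j, hj⟩ := isR_of_pgroup hP (inv_mem hy')
    have h2 : orderOf (f a) ∣ r ^ k * r ^ j := by
      refine orderOf_dvd_of_pow_eq_one ?_
      rw [pow_mul, ← map_pow, h1, ← map_pow, hj, map_one]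
    have h3 : orderOf (f a) ∣ p := orderOf_dvd_of_pow_eq_one (by rw [← map_pow, hpow, map_one])
    rw [← pow_add] at h2
    exact orderOf_eq_one_iff.1 (Nat.eq_one_of_dvd_coprimes
      (Nat.Coprime.pow_left _ ((Nat.coprime_primes h.hr h.hp).2 h.hpr.symm)) h2 h3)
  have hfx : f (a * y0) = f y0 := by rw [map_mul, hfa, one_mul]
  refine ⟨y0, hy0, hfx.symm, fun hc => ?_⟩
  have hker : A ≤ normalizer ((P ⊓ f.ker : Subgroup G) : Set G) := fun b hb => by
    rw [Subgroup.mem_normalizer_iff]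
    intro z
    simp only [Subgroup.mem_inf]
    exact and_congr (Subgroup.mem_normalizer_iff.1 (hn hb) z)
      ((Subgroup.mem_normalizer_iff.1 ((Subgroup.normalizer_eq_top f.ker).symm ▸ mem_top b) z))
  have hcard : ¬ p ∣ Nat.card ↥(P ⊓ f.ker : Subgroup G) := by
    intro hd
    obtain ⟨j, hj⟩ := hP.exists_card_eq
    have := hj ▸ hd.trans (card_dvd_of_le inf_le_left)
    exact h.hpr ((Nat.prime_dvd_prime_iff_eq h.hp h.hr).1 (h.hp.dvd_of_dvd_pow this))
  obtain ⟨n, hn', hnc⟩ := Signalizer.exists_fixed_in_coset (h.pgroup hA) hker hcard (x := y0)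
    (fun b hb => ⟨P.mul_mem (P.inv_mem hy0) ((Subgroup.mem_normalizer_iff.1 (hn hb) y0).1 hy0), by
      show f (y0⁻¹ * (b * y0 * b⁻¹)) = 1
      have h4 : f b * f y0 = f y0 * f b := by
        have := mem_centralizer_iff.1 hc (f b) (mem_map_of_mem f hb)
        rwa [hfx] at this
      rw [map_mul, map_mul, map_mul, map_inv, map_inv, h4, mul_inv_cancel_right, inv_mul_cancel]⟩)
  exact ⟨y0 * n, mul_mem hy0 hn'.1, by rw [map_mul, (hn'.2 : f n = 1), mul_one, hfx], hnc⟩

theorem cls_map (h : Base p r D) (hc : Cls p r D) (N : Subgroup G) [N.Normal]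
    (hN : Group.IsSolvable N) :
    Cls p r ((Subgroup.map (QuotientGroup.mk' N)) '' D) := by
  haveI := Fact.mk h.hr
  set f := QuotientGroup.mk' N
  rcases hc with c2 | ⟨hno, hp0⟩
  · left
    intro K hK hKs Ab hAb
    obtain ⟨⟨A, hA, rfl⟩, hAK⟩ := hAb
    set K1 := K.comap f
    have hK1s : Group.IsSolvable K1 := by
      haveI := hN
      haveI := hKs
      refine Group.isSolvable_of_ker_le_range (Subgroup.inclusion (show N ≤ K1 from fun x hx => by
        show f x ∈ K
        rw [show f x = 1 from (QuotientGroup.eq_one_iff x).2 hx]; exact one_mem _))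
        ((f.comp K1.subtype).codRestrict K fun x => x.2) ?_
      intro x hx
      have hx' : f (x : G) = 1 := congrArg Subtype.val hx
      exact ⟨⟨x, (QuotientGroup.eq_one_iff (x : G)).1 hx'⟩, Subtype.ext rfl⟩
    set L := sSup (pts D K1)
    have hL : IsSub D L := isSub_sSup D fun _ hh => hh.1
    have hLK1 : L ≤ K1 := sSup_le fun _ hh => hh.2
    have hLs : Group.IsSolvable L := by
      haveI := hK1s
      exact Group.isSolvable_of_isSolvable_injective (Subgroup.inclusion_injective hLK1)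
    have hKL : K = L.map f := by
      refine le_antisymm ?_ ((map_mono hLK1).trans (map_comap_le _ _))
      refine hK.le_of_pts fun B hB => ?_
      obtain ⟨⟨B, hB', rfl⟩, hBK⟩ := hB
      exact map_mono (le_sSup ⟨hB', map_le_iff_le_comap.1 hBK⟩)
    have hAL : A ∈ pts D L := ⟨hA, le_sSup ⟨hA, map_le_iff_le_comap.1 hAK⟩⟩
    have d := h.radData hL hLs
    have hlift : ∀ x ∈ Rd r K, ∃ y ∈ Rd r L, f y = x := by
      intro x hx
      have : Rd r K ≤ (Rd r L).map f := by
        refine (closure_le _).2 fun w hw => ?_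
        obtain ⟨y, hy, hye, -⟩ := exists_lift h f hA d.pg (hAL.2.trans d.norm) (d.sup A hAL)
          (hKL ▸ hw.1) hw.2
        exact ⟨y, hy, hye⟩
      exact this hx
    obtain ⟨h1, h2⟩ := c2 L hL hLs A hAL
    refine ⟨fun x hx hxc => ?_, fun x hx y hy => ?_⟩
    · obtain ⟨y, hy, rfl⟩ := hlift x hx
      obtain ⟨-, -, -, hl⟩ := exists_lift h f hA d.pg (hAL.2.trans d.norm) (d.sup A hAL)
        (mem_map_of_mem f (rd_le r L hy)) ((isR_of_pgroup d.pg hy).map f)
      obtain ⟨y', hy', he, hyc⟩ := hl hxc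
      rw [← he, hKL, mem_centralizer_iff]
      rintro _ ⟨g, hg, rfl⟩
      rw [← map_mul, ← map_mul, mem_centralizer_iff.1 (h1 y' hy' hyc) g hg]
    · obtain ⟨x', hx', rfl⟩ := hlift x hx
      obtain ⟨y', hy', rfl⟩ := hlift y hy
      rw [mem_centralizer_iff]
      rintro _ ⟨b, hb, rfl⟩
      rw [← map_commutatorElement, ← map_mul, ← map_mul,
        mem_centralizer_iff.1 (h2 x' hx' y' hy') b hb]
  · right
    refine ⟨?_, hp0⟩
    rintro _ ⟨A, hA, rfl⟩ _ ⟨B, hB, rfl⟩ hne x hx hxr hxc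
    have hAB : A ≠ B := fun e => hne (by rw [e])
    obtain ⟨R, hR, hRle, hn, hsup⟩ := h.line A hA B hB hAB
    rw [← Subgroup.map_sup] at hx
    obtain ⟨-, -, -, hl⟩ := exists_lift h f hA hR (le_sup_left.trans hn) hsup hx hxr
    obtain ⟨y, hy, he, hyc⟩ := hl hxc
    rw [← he, hno A hA B hB hAB y (hRle hy) (isR_of_pgroup hR hy) hyc, map_one]

theorem cls_sub (hc : Cls p r D) {K : Subgroup G} :
    Cls p r {B : Subgroup K | B.map K.subtype ∈ D} := by
  have hinj := K.subtype_injective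
  rcases hc with c2 | ⟨hno, hp0⟩
  · left
    intro L hL hLs A hA
    have hsub : IsSub D (L.map K.subtype) := by
      refine le_antisymm (sSup_le fun _ hh => hh.2) ?_
      conv_lhs => rw [← hL, (Subgroup.gc_map_comap K.subtype).l_sSup]
      exact iSup₂_le fun B hB => le_sSup ⟨hB.1, map_mono hB.2⟩
    haveI := hLs
    have hs : Group.IsSolvable (L.map K.subtype) :=
      Group.isSolvable_of_surjective
        (f := (L.equivMapOfInjective _ hinj).toMonoidHom) (L.equivMapOfInjective _ hinj).surjective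
    obtain ⟨h1, h2⟩ := c2 _ hsub hs (A.map K.subtype) ⟨hA.1, map_mono hA.2⟩
    have hrd : ∀ x ∈ Rd r L, (x : G) ∈ Rd r (L.map K.subtype) := by
      intro x hx
      have : Rd r L ≤ (Rd r (L.map K.subtype)).comap K.subtype :=
        (closure_le _).2 fun w hw => subset_closure ⟨mem_map_of_mem _ hw.1, hw.2.map K.subtype⟩
      exact this hx
    refine ⟨fun x hx hxc => ?_, fun x hx y hy => ?_⟩
    · have hc' : (x : G) ∈ centralizer ((A.map K.subtype : Subgroup G) : Set G) := by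
        rw [mem_centralizer_iff]
        rintro _ ⟨b, hb, rfl⟩
        exact congrArg Subtype.val (mem_centralizer_iff.1 hxc b hb)
      have := h1 _ (hrd x hx) hc'
      rw [mem_centralizer_iff] at this ⊢
      exact fun b hb => Subtype.ext (this b (mem_map_of_mem _ hb))
    · have := h2 _ (hrd x hx) _ (hrd y hy)
      rw [mem_centralizer_iff] at this ⊢
      exact fun b hb => Subtype.ext (this b (mem_map_of_mem _ hb))
  · right
    refine ⟨fun A hA B hB hne x hx hxr hxc => ?_, hp0⟩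
    refine Subtype.ext (hno _ hA _ hB (fun e => hne (map_injective hinj e)) x
      (by rw [← Subgroup.map_sup]; exact mem_map_of_mem _ hx) (hxr.map K.subtype) ?_)
    rw [mem_centralizer_iff]
    rintro _ ⟨b, hb, rfl⟩
    exact congrArg Subtype.val (mem_centralizer_iff.1 hxc b hb)

theorem isSolvable_aux (n : ℕ) : ∀ (G : Type u) [Group G] [Finite G] (p r : ℕ)
    (D : Set (Subgroup G)), Nat.card G = n → Base p r D → Cls p r D → Group.IsSolvable G := by
  induction n using Nat.strong_induction_on with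
  | _ n ih =>
  intro G _ _ p r D hn h hc
  by_contra hcon
  refine MC.false (⟨h, hc, fun K hK hne => ?_, fun N hN hNs => ?_, ?_⟩ : MC p r D)
  · refine ih _ ?_ K p r _ rfl (h.sub hK) (cls_sub hc)
    rw [← hn]
    exact lt_of_le_of_ne (Nat.le_of_dvd Nat.card_pos (card_subgroup_dvd_card K))
      (fun he => hne (Subgroup.eq_top_of_card_eq K he))
  · by_contra hN1
    haveI := hN
    haveI := hNs
    refine hcon ?_
    by_cases hle : ∃ A ∈ D, A ≤ N
    · obtain ⟨A, hA, hAN⟩ := hle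
      have htop : N = ⊤ := by
        rw [eq_top_iff, ← h.gen]
        refine sSup_le fun B hB => ?_
        obtain ⟨g, rfl⟩ := h.conj_all hA hB
        intro x hx
        have h1 := hN.conj_mem _ (hAN (mem_cj.1 hx)) g
        simpa [mul_assoc] using h1
      exact Group.isSolvable_of_surjective (f := N.subtype) (fun g => ⟨⟨g, htop ▸ mem_top g⟩, rfl⟩)
    push Not at hle
    have hinj : ∀ A ∈ D, ∀ a ∈ A, QuotientGroup.mk' N a = 1 → a = 1 := fun A hA a ha he => by
      by_contra ha1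
      exact hle A hA (h.le_of_mem hA ha ha1 ((QuotientGroup.eq_one_iff a).1 he))
    haveI : Group.IsSolvable (G ⧸ N) := by
      refine ih _ ?_ _ p r _ rfl (h.map _ (QuotientGroup.mk'_surjective N) hinj) (cls_map h hc N hNs)
      rw [← hn, Subgroup.card_eq_card_quotient_mul_card_subgroup N]
      exact lt_mul_of_one_lt_right Nat.card_pos ((Subgroup.one_lt_card_iff_ne_bot N).2 hN1)
    exact Group.isSolvable_of_ker_le_range N.subtype (QuotientGroup.mk' N)
      (by rw [QuotientGroup.ker_mk', range_subtype])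
  · by_contra h2
    exact hcon (S0205.result (Nat.odd_iff.2 (Nat.two_dvd_ne_zero.1 h2)))

/-- A group generated by a line system is solvable. -/
theorem isSolvable_of_base {G : Type u} [Group G] [Finite G] {p r : ℕ} {D : Set (Subgroup G)}
    (h : Base p r D) (hc : Cls p r D) : Group.IsSolvable G :=
  isSolvable_aux _ G p r D rfl h hc

end Cfsg.Agent.H73.Fis
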