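import Cfsg.Agent.H73.Fis.Odd
import Cfsg.Prelude.Def_Solvable

/-!
# Order `p` subgroups generating pairwise one fixed group of odd order
-/

set_option autoImplicit false
set_option linter.style.haveILetI false

namespace Cfsg.Agent.H73.Fis

open Subgroup
open scoped Pointwise commutatorElement

universe u v

variable {G : Type u} [Group G]

/-- The hypothesis of the theorem. -/
structure Pairs (p : ℕ) (n : ℕ) (D : Set (Subgroup G)) : Prop where
  hp : p.Prime
  hp2 : p ≠ 2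
  card : ∀ A ∈ D, Nat.card A = p
  inv : ∀ A ∈ D, ∀ g : G, cj g A ∈ D
  gen : sSup D = ⊤
  hn : Odd n
  pair : ∀ A ∈ D, ∀ B ∈ D, A ≠ B → Nat.card ↥(A ⊔ B : Subgroup G) = n ∧
    ¬ IsMulCommutative ↥(A ⊔ B : Subgroup G)

namespace Pairs

variable [Finite G] {p n : ℕ} {D : Set (Subgroup G)}

theorem eq (h : Pairs p n D) : ∀ A ∈ D, ∀ B ∈ D, ∀ C ∈ D, A ≠ B → C ≠ A → C ≤ A ⊔ B →
    A ⊔ C = A ⊔ B := fun A hA B hB C hC hAB hCA hle =>
  Subgroup.eq_of_le_of_card_ge (sup_le le_sup_left hle)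
    (le_of_eq ((h.pair A hA B hB hAB).1.trans (h.pair A hA C hC (Ne.symm hCA)).1.symm))

theorem exists_ne_one (h : Pairs p n D) {A : Subgroup G} (hA : A ∈ D) : ∃ a ∈ A, a ≠ 1 := by
  by_contra hc; push Not at hc
  have := h.card A hA
  rw [(Subgroup.eq_bot_iff_forall _).2 hc, Subgroup.card_bot] at this
  exact h.hp.ne_one this.symm

theorem eq_zpowers (h : Pairs p n D) {A : Subgroup G} (hA : A ∈ D) {a : G} (ha : a ∈ A)
    (ha1 : a ≠ 1) : A = zpowers a := by
  refine (Subgroup.eq_of_le_of_card_ge (zpowers_le.2 ha) ?_).symm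
  rw [h.card A hA, Nat.card_zpowers]
  have h1 : orderOf a ∣ p := h.card A hA ▸ Subgroup.orderOf_dvd_natCard A ha
  rcases h.hp.eq_one_or_self_of_dvd _ h1 with h2 | h2
  · exact absurd (orderOf_eq_one_iff.1 h2) ha1
  · omega

theorem not_commute (h : Pairs p n D) {A B : Subgroup G} (hA : A ∈ D) (hB : B ∈ D) (hne : A ≠ B)
    (hc : ∀ a ∈ A, ∀ b ∈ B, Commute a b) : False := by
  haveI := Fact.mk h.hp
  refine (h.pair A hA B hB hne).2 ?_
  have hcy : ∀ C ∈ D, ∀ x ∈ C, ∀ y ∈ C, Commute x y := fun C hC x hx y hy => by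
    obtain ⟨c, hc', hc1⟩ := h.exists_ne_one hC
    rw [h.eq_zpowers hC hc' hc1] at hx hy
    obtain ⟨i, rfl⟩ := mem_zpowers_iff.1 hx
    obtain ⟨j, rfl⟩ := mem_zpowers_iff.1 hy
    exact (Commute.refl c).zpow_zpow i j
  have h1 : A ⊔ B ≤ centralizer ((A ⊔ B : Subgroup G) : Set G) := by
    have h2 : ∀ x, x ∈ A ∨ x ∈ B → A ⊔ B ≤ centralizer ({x} : Set G) := by
      intro x hx
      refine sup_le (fun a ha => mem_centralizer_singleton_iff.2 ?_)
        (fun b hb => mem_centralizer_singleton_iff.2 ?_) <;> rcases hx with hx | hx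
      · exact (hcy A hA a ha x hx).eq
      · exact (hc a ha x hx).eq
      · exact (hc x hx b hb).eq.symm
      · exact (hcy B hB b hb x hx).eq
    refine sup_le (fun a ha => mem_centralizer_iff.2 fun y hy => ?_)
      (fun b hb => mem_centralizer_iff.2 fun y hy => ?_)
    · exact mem_centralizer_singleton_iff.1 (h2 a (Or.inl ha) hy)
    · exact mem_centralizer_singleton_iff.1 (h2 b (Or.inr hb) hy)
  exact ⟨⟨fun x y => Subtype.ext (mem_centralizer_iff.1 (h1 y.2) x x.2)⟩⟩

/-- A `p`-group is not generated by two distinct members. -/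
theorem not_pgroup (h : Pairs p n D) {A B : Subgroup G} (hA : A ∈ D) (hB : B ∈ D) (hne : A ≠ B)
    (hX : IsPGroup p ↥(A ⊔ B : Subgroup G)) : False := by
  haveI := Fact.mk h.hp
  set X := A ⊔ B with hXdef
  haveI := hX.isNilpotent
  -- each member is normalised by the other
  have key : ∀ C ∈ D, C ≤ X → ∀ C' ∈ D, C ≠ C' → C ⊔ C' = X → ∀ x ∈ X, cj x C = C := by
    intro C hC hCX C' hC' hne' hsup x hx
    by_contra hmove
    have h1 : C ⊔ cj x C = X := by
      rw [← hsup]
      exact h.eq C hC C' hC' _ (h.inv C hC x) hne' hmove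
        (cj_le_of_mem le_sup_left (hsup.symm ▸ hx))
    rcases eq_top_or_exists_le_coatom (C.subgroupOf X) with htop | ⟨M, hM, hCM⟩
    · have : X ≤ C := fun y hy => by
        have := htop ▸ (mem_top (⟨y, hy⟩ : X))
        exact this
      refine hmove (Subgroup.eq_of_le_of_card_ge ((cj_le_of_mem hCX hx).trans this) (card_cj x C).ge)
    · haveI hMn : M.Normal :=
        NormalizerCondition.normal_of_coatom M Group.normalizerCondition_of_isNilpotent hM
      refine hM.1 (eq_top_iff.2 fun y _ => ?_)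
      have hmap : X ≤ M.map X.subtype := by
        refine (le_of_eq h1.symm).trans ?_
        refine sup_le (fun c hc => ⟨⟨c, hCX hc⟩, hCM hc, rfl⟩) ?_
        intro c hc
        have hc' : (⟨x⁻¹ * c * x, hCX (mem_cj.1 hc)⟩ : X) ∈ M := hCM (mem_cj.1 hc)
        refine ⟨_, hMn.conj_mem _ hc' ⟨x, hx⟩, ?_⟩
        show x * (x⁻¹ * c * x) * x⁻¹ = c
        group
      obtain ⟨z, hz, hze⟩ := hmap y.2
      exact Subtype.ext hze ▸ hz
  have hAn := key A hA le_sup_left B hB hne hXdef.symm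
  have hBn := key B hB le_sup_right A hA hne.symm (by rw [sup_comm])
  refine h.not_commute hA hB hne fun a ha b hb => ?_
  by_contra hab
  have h1 : ⁅a, b⁆ ∈ A := by
    rw [commutatorElement_def]
    have := mul_mem ha ((hAn b (mem_sup_right hb)) ▸ conj_mem_cj (g := b) (inv_mem ha))
    simpa [mul_assoc] using this
  have h2 : ⁅a, b⁆ ∈ B := by
    rw [commutatorElement_def]
    exact mul_mem ((hBn a (mem_sup_left ha)) ▸ conj_mem_cj (g := a) hb) (inv_mem hb)
  have h3 : ⁅a, b⁆ ≠ 1 := fun e => hab (commutatorElement_eq_one_iff_mul_comm.1 e)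
  exact hne (by rw [h.eq_zpowers hA h1 h3, h.eq_zpowers hB h2 h3])

theorem centralizes_of_normalizes (h : Pairs p n D) {A : Subgroup G} (hA : A ∈ D) {x : G} {s k : ℕ}
    [Fact s.Prime] (hxs : x ^ s ^ k = 1) (hdisj : s ≠ p → ∀ a ∈ A, ⁅x, a⁆ ∈ A → ⁅x, a⁆ = 1)
    (hfix : cj x A = A) : x ∈ centralizer (A : Set G) := by
  haveI := Fact.mk h.hp
  by_cases hsp : s = p
  · subst hsp
    have hxp : IsPGroup s (zpowers x) := by
      refine IsPGroup.iff_orderOf.2 fun y => ?_
      obtain ⟨y, hy⟩ := y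
      obtain ⟨i, rfl⟩ := mem_zpowers_iff.1 hy
      obtain ⟨j, -, hj⟩ := (Nat.dvd_prime_pow (Fact.out : s.Prime)).1
        ((orderOf_dvd_of_pow_eq_one (show (x ^ i) ^ s ^ k = 1 by
          rw [← zpow_natCast, ← zpow_mul, mul_comm, zpow_mul, zpow_natCast, hxs, one_zpow])))
      exact ⟨j, by rw [Subgroup.orderOf_mk, hj]⟩
    have hS : ∀ y ∈ zpowers x, ∀ a ∈ (A : Set G) \ {1}, y * a * y⁻¹ ∈ (A : Set G) \ {1} := by
      intro y hy a ha
      have hyA : cj y A = A := cj_eq_of_normalizer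
        ((zpowers_le.2 (mem_normalizer_of_cj hfix)) hy)
      refine ⟨hyA ▸ conj_mem_cj ha.1, fun e => ha.2 ?_⟩
      simpa using e
    have hcard : ¬ s ∣ Nat.card ((A : Set G) \ {1} : Set G) := by
      rw [Nat.card_coe_set_eq, Set.ncard_sdiff_singleton_of_mem (one_mem A),
        ← Nat.card_coe_set_eq]
      rw [show Nat.card ((A : Set G) : Set G) = s from h.card A hA]
      intro hd
      have h2 := (Fact.out : s.Prime).two_le
      have := Nat.le_of_dvd (by omega) hd
      omega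
    obtain ⟨a, ⟨ha, ha1⟩, hac⟩ := Signalizer.exists_fixed_of_isPGroup hxp _ hS hcard
    rw [h.eq_zpowers hA ha ha1, Signalizer.centralizer_zpowers, mem_centralizer_singleton_iff]
    exact mem_centralizer_iff.1 hac x (mem_zpowers x)
  · refine mem_centralizer_iff.2 fun a ha => ?_
    have h1 : ⁅x, a⁆ ∈ A := by
      rw [commutatorElement_def]; exact mul_mem (hfix ▸ conj_mem_cj ha) (inv_mem ha)
    exact (commutatorElement_eq_one_iff_mul_comm.1 (hdisj hsp a ha h1)).symm

theorem exists_line (h : Pairs p n D) {A B : Subgroup G} (hA : A ∈ D) (hB : B ∈ D) (hne : A ≠ B) :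
    ∃ r : ℕ, r.Prime ∧ r ≠ p ∧ ∃ R : Subgroup G, IsPGroup r R ∧ R ≤ A ⊔ B ∧
      A ⊔ B ≤ normalizer (R : Set G) ∧ R ⊔ A = A ⊔ B ∧ R ⊔ B = A ⊔ B := by
  classical
  haveI := Fact.mk h.hp
  set X := A ⊔ B with hXdef
  have hodd : Odd (Nat.card X) := by rw [(h.pair A hA B hB hne).1]; exact h.hn
  haveI := S0205.result hodd
  obtain ⟨k, hk⟩ := (isSolvable_def X).1 inferInstance
  have hex : ∃ i, derivedSeries X i ≤ center X := ⟨k, by rw [hk]; exact bot_le⟩
  have h0 : Nat.find hex ≠ 0 := by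
    intro h0
    have h1 := Nat.find_spec hex
    rw [h0, derivedSeries_zero] at h1
    exact (h.pair A hA B hB hne).2 ⟨⟨fun x y => (Subgroup.mem_center_iff.1 (h1 (mem_top y)) x)⟩⟩
  obtain ⟨i, hi⟩ := Nat.exists_eq_succ_of_ne_zero h0
  set M := derivedSeries X i with hM
  have hMc : ¬ M ≤ center X := Nat.find_min hex (by omega)
  have hMd : ⁅M, M⁆ ≤ center X := by
    have := Nat.find_spec hex
    rwa [hi, derivedSeries_succ] at this
  haveI : M.Normal := derivedSeries_normal X i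
  haveI hMnil : Group.IsNilpotent M := by
    have : Group.IsNilpotent M := (Subgroup.isNilpotent_iff_lowerCentralSeries M).2 ⟨2, by
      rw [Subgroup.lowerCentralSeries_succ, eq_bot_iff,
        Subgroup.lowerCentralSeries_succ, Subgroup.lowerCentralSeries_zero]
      refine Subgroup.commutator_le.2 fun x hx y _ => ?_
      rw [Subgroup.mem_bot, commutatorElement_eq_one_iff_mul_comm]
      exact (Subgroup.mem_center_iff.1 (hMd hx) y).symm⟩
    exact this
  -- a Sylow subgroup of `M` moving `A` or `B`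
  have hsome : ∃ s : ℕ, ∃ _ : Fact s.Prime, ∃ S : Sylow s M, ∃ C, (C = A ∨ C = B) ∧
      ∃ x ∈ (S : Subgroup M), cj ((x : X) : G) C ≠ C := by
    by_contra hcon
    push Not at hcon
    refine hMc ?_
    intro m hm
    have hcen : ∀ C, (C = A ∨ C = B) → ∀ y : M, ((y : X) : G) ∈ centralizer (C : Set G) := by
      intro C hC
      have hCD : C ∈ D := by rcases hC with rfl | rfl <;> assumption
      set L : Subgroup M := (centralizer (C : Set G)).comap (X.subtype.comp M.subtype) with hL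
      suffices L = ⊤ from fun y => by
        have := (this ▸ mem_top y : y ∈ L); exact this
      rw [← Subgroup.index_eq_one]
      by_contra hidx
      obtain ⟨s, hs, hsd⟩ := Nat.exists_prime_and_dvd hidx
      haveI := Fact.mk hs
      obtain ⟨S⟩ : Nonempty (Sylow s M) := inferInstance
      refine S.not_dvd_index (hsd.trans (Subgroup.index_dvd_of_le ?_))
      intro x hx
      obtain ⟨j, hj⟩ := S.2 ⟨x, hx⟩
      have hj' : x ^ s ^ j = 1 := congrArg Subtype.val hj
      refine h.centralizes_of_normalizes hCD (s := s) (k := j)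
        (congrArg (fun y : M => ((y : X) : G)) hj') (fun hsp a ha hmem => ?_) (hcon s ⟨hs⟩ S C hC x hx)
      -- the commutator lies in the normal `s`-subgroup `S`
      haveI : (S : Subgroup M).Normal := inferInstance
      haveI := S.characteristic_of_normal inferInstance
      set S' := (S : Subgroup M).map M.subtype
      haveI : S'.Normal := ConjAct.normal_of_characteristic_of_normal
      have haX : a ∈ X := (show C ≤ X by rcases hC with rfl | rfl; exact le_sup_left; exact le_sup_right) ha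
      have hxS : (x : X) ∈ S' := ⟨x, hx, rfl⟩
      have h1 : ⁅(x : X), (⟨a, haX⟩ : X)⁆ ∈ S' := by
        rw [commutatorElement_def, mul_assoc, mul_assoc, ← mul_assoc (⟨a, haX⟩ : X)]
        exact mul_mem hxS ((inferInstance : S'.Normal).conj_mem _ (inv_mem hxS) _)
      obtain ⟨j', hj'⟩ := (S.2.map M.subtype) ⟨_, h1⟩
      have hj'' : ⁅((x : X) : G), a⁆ ^ s ^ j' = 1 :=
        congrArg (fun y : S' => ((y : X) : G)) hj'
      exact orderOf_eq_one_iff.1 (Nat.eq_one_of_dvd_coprimes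
        (Nat.Coprime.pow_left _ ((Nat.coprime_primes hs h.hp).2 hsp))
        (orderOf_dvd_of_pow_eq_one hj'') (h.card C hCD ▸ Subgroup.orderOf_dvd_natCard C hmem))
    refine Subgroup.mem_center_iff.2 fun y => ?_
    have hy : (y : G) ∈ centralizer ({((m : X) : G)} : Set G) := by
      refine (sup_le ?_ ?_ : X ≤ _) y.2
      · exact fun a ha => mem_centralizer_singleton_iff.2
          (mem_centralizer_iff.1 (hcen A (Or.inl rfl) ⟨m, hm⟩) a ha)
      · exact fun a ha => mem_centralizer_singleton_iff.2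
          (mem_centralizer_iff.1 (hcen B (Or.inr rfl) ⟨m, hm⟩) a ha)
    exact Subtype.ext (mem_centralizer_singleton_iff.1 hy)
  obtain ⟨s, hs, S, C, hC, x, hx, hmove⟩ := hsome
  haveI := hs
  haveI : (S : Subgroup M).Normal := inferInstance
  haveI := S.characteristic_of_normal inferInstance
  set S' := (S : Subgroup M).map M.subtype
  haveI hS'n : S'.Normal := ConjAct.normal_of_characteristic_of_normal
  set R := S'.map X.subtype with hR
  have hRr : IsPGroup s R := (S.2.map _).map _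
  have hRle : R ≤ X := map_subtype_le _
  have hRn : X ≤ normalizer (R : Set G) := fun g hg => by
    have h1 : (⟨g, hg⟩ : X) ∈ normalizer (S' : Set X) := by
      rw [Subgroup.normalizer_eq_top S']; exact mem_top _
    exact le_normalizer_map X.subtype (mem_map_of_mem X.subtype h1)
  have hCD : C ∈ D := by rcases hC with rfl | rfl <;> assumption
  have hCX : C ≤ X := by rcases hC with rfl | rfl; exacts [le_sup_left, le_sup_right]
  have hxR : ((x : X) : G) ∈ R := mem_map_of_mem _ (mem_map_of_mem _ hx)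
  have hCsup : R ⊔ C = X := by
    refine le_antisymm (sup_le hRle hCX) ?_
    have h1 : C ⊔ cj ((x : X) : G) C = X := by
      rcases hC with rfl | rfl
      · exact h.eq _ hA B hB _ (h.inv _ hA _) hne hmove (cj_le_of_mem le_sup_left (x : X).2)
      · refine (h.eq _ hB A hA _ (h.inv _ hB _) hne.symm hmove ?_).trans (sup_comm _ _)
        exact (cj_le_of_mem le_sup_right (x : X).2).trans (le_of_eq (sup_comm _ _))
    refine (le_of_eq h1.symm).trans ?_
    exact sup_le le_sup_right (cj_le_of_mem le_sup_right (mem_sup_left hxR))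
  have hsp : s ≠ p := by
    rintro rfl
    refine h.not_pgroup hA hB hne ?_
    rw [← hXdef, ← hCsup]
    exact IsPGroup.to_sup_of_normal_left' hRr
      (IsPGroup.of_card (n := 1) (by rw [pow_one]; exact h.card C hCD)) (hCX.trans hRn)
  have hcop : ∀ E ∈ D, (Nat.card E).Coprime (Nat.card R) := fun E hE => by
    obtain ⟨j, hj⟩ := hRr.exists_card_eq
    rw [h.card E hE, hj]
    exact Nat.Coprime.pow_right _ ((Nat.coprime_primes h.hp hs.out).2 hsp.symm)
  have hall : ∀ E ∈ D, E ≤ X → R ⊔ E = X := fun E hE hEX => by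
    refine Subgroup.eq_of_le_of_card_ge (sup_le hRle hEX) (le_of_eq ?_)
    rw [← hCsup, sup_comm R C, sup_comm R E, Coprime.card_sup_of_coprime (hCX.trans hRn) (hcop C hCD),
      Coprime.card_sup_of_coprime (hEX.trans hRn) (hcop E hE), h.card C hCD, h.card E hE]
  exact ⟨s, hs.out, hsp, R, hRr, hRle, hRn, hall A hA le_sup_left, hall B hB le_sup_right⟩

theorem exists_base (h : Pairs p n D) {A0 B0 : Subgroup G} (hA0 : A0 ∈ D) (hB0 : B0 ∈ D)
    (hne0 : A0 ≠ B0) : ∃ r, Base p r D := by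
  haveI := Fact.mk h.hp
  obtain ⟨r, hr, hrp, R, hR, hRle, hn, hsup, -⟩ := h.exists_line hA0 hB0 hne0
  haveI := Fact.mk hr
  have hcount : ∀ {A B R : Subgroup G} {s : ℕ} [Fact s.Prime], A ∈ D → B ∈ D → A ≠ B → s ≠ p →
      IsPGroup s R → A ⊔ B ≤ normalizer (R : Set G) → R ⊔ A = A ⊔ B → p * Nat.card R = n := by
    intro A B R s hs hA hB hne hsp hR hn hsup
    obtain ⟨j, hj⟩ := hR.exists_card_eq
    have hcop : (Nat.card A).Coprime (Nat.card R) := by
      rw [h.card A hA, hj]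
      exact Nat.Coprime.pow_right _ ((Nat.coprime_primes h.hp hs.out).2 hsp.symm)
    rw [← (h.pair A hA B hB hne).1, ← hsup, sup_comm,
      Coprime.card_sup_of_coprime (le_sup_left.trans hn) hcop, h.card A hA]
  have hR0 := hcount hA0 hB0 hne0 hrp hR hn hsup
  have hRne : Nat.card R ≠ 1 := by
    intro h1
    have := Subgroup.card_eq_one.1 h1
    rw [this, bot_sup_eq] at hsup
    exact hne0 (Subgroup.eq_of_le_of_card_ge (hsup.symm ▸ le_sup_right)
      (by rw [h.card A0 hA0, h.card B0 hB0])).symm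
  refine ⟨r, h.hp, hr, h.hp2, ?_, hrp.symm, h.card, h.inv, h.gen, ?_, h.eq⟩
  · rintro rfl
    obtain ⟨j, hj⟩ := hR.exists_card_eq
    have hj0 : j ≠ 0 := fun e => hRne (by rw [hj, e, pow_zero])
    exact Nat.not_even_iff_odd.2 h.hn
      (by rw [← hR0, hj]; exact ((Nat.even_pow.2 ⟨even_two, hj0⟩).mul_left p))
  · intro A hA B hB hne
    obtain ⟨s, hs, hsp, R', hR', hle', hn', hsup', -⟩ := h.exists_line hA hB hne
    haveI := Fact.mk hs
    refine ⟨R', ?_, hle', hn', hsup'⟩
    have h1 : Nat.card R' = Nat.card R :=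
      Nat.eq_of_mul_eq_mul_left h.hp.pos ((hcount hA hB hne hsp hR' hn' hsup').trans hR0.symm)
    obtain ⟨j, hj⟩ := hR.exists_card_eq
    exact IsPGroup.of_card (n := j) (h1.trans hj)

end Pairs

variable [Finite G] {p r : ℕ} {D : Set (Subgroup G)}

/-- `r`-elements commute. -/
def RComm (r : ℕ) (X : Type*) [Group X] : Prop :=
  ∀ x y : X, IsR r x → IsR r y → Commute x y

theorem RComm.congr {X : Type*} [Group X] {Y : Type*} [Group Y] (e : X ≃* Y) (h : RComm r X) :
    RComm r Y := fun x y ⟨i, hi⟩ ⟨j, hj⟩ => by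
  have := (h (e.symm x) (e.symm y) ⟨i, by rw [← map_pow, hi, map_one]⟩
    ⟨j, by rw [← map_pow, hj, map_one]⟩).map e.toMonoidHom
  simpa using this

theorem line_abelian (h : Base p r D) {A B : Subgroup G} (hA : A ∈ D) (hB : B ∈ D) (hne : A ≠ B)
    (hc : RComm r ↥(A ⊔ B : Subgroup G)) :
    ∀ x ∈ A ⊔ B, IsR r x → x ∈ centralizer (A : Set G) → x = 1 := by
  haveI := Fact.mk h.hr
  obtain ⟨R, hR, hRle, hn, hsup⟩ := h.line A hA B hB hne
  set X := A ⊔ B
  have hRc : ∀ x ∈ R, ∀ y ∈ R, Commute x y := fun x hx y hy => by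
    have := hc ⟨x, hRle hx⟩ ⟨y, hRle hy⟩ (by
      obtain ⟨k, hk⟩ := isR_of_pgroup hR hx; exact ⟨k, Subtype.ext (by simpa using hk)⟩) (by
      obtain ⟨k, hk⟩ := isR_of_pgroup hR hy; exact ⟨k, Subtype.ext (by simpa using hk)⟩)
    exact congrArg Subtype.val this
  obtain ⟨a, ha, ha1⟩ := h.exists_ne_one hA
  have hφm : ∀ g ∈ R, ⁅g, a⁆ ∈ R := fun g hg => by
    rw [commutatorElement_def]
    have h4 := (Subgroup.mem_normalizer_iff.1 (hn (mem_sup_left ha)) g⁻¹).1 (inv_mem hg)
    have := mul_mem hg h4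
    simpa [mul_assoc] using this
  let φ : R →* R :=
    { toFun := fun g => ⟨⁅(g : G), a⁆, hφm g g.2⟩
      map_one' := Subtype.ext (commutatorElement_one_left a)
      map_mul' := fun g g' => Subtype.ext (by
        show ⁅(g : G) * g', a⁆ = ⁅(g : G), a⁆ * ⁅(g' : G), a⁆
        calc ⁅(g : G) * g', a⁆ = g * ⁅(g' : G), a⁆ * (g : G)⁻¹ * ⁅(g : G), a⁆ := by
              simp only [commutatorElement_def]; group
          _ = ⁅(g' : G), a⁆ * ⁅(g : G), a⁆ := by
              rw [(hRc g g.2 _ (hφm g' g'.2)).eq, mul_inv_cancel_right]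
          _ = ⁅(g : G), a⁆ * ⁅(g' : G), a⁆ := (hRc _ (hφm g' g'.2) _ (hφm g g.2)).eq) }
  set R1 := φ.range.map R.subtype with hR1
  have hR1le : R1 ≤ R := map_subtype_le _
  have hAR1 : A ≤ normalizer (R1 : Set G) := by
    rw [h.eq_zpowers hA ha ha1, zpowers_le]
    refine mem_normalizer_of_cj (Subgroup.eq_of_le_of_card_ge ?_ (card_cj a R1).ge)
    rintro _ ⟨y, ⟨_, ⟨g, rfl⟩, rfl⟩, rfl⟩
    refine ⟨φ ⟨a * g * a⁻¹, (Subgroup.mem_normalizer_iff.1 (hn (mem_sup_left ha)) g).1 g.2⟩,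
      ⟨_, rfl⟩, ?_⟩
    show ⁅a * (g : G) * a⁻¹, a⁆ = a * ⁅(g : G), a⁆ * a⁻¹
    simp only [commutatorElement_def]; group
  obtain ⟨x0, hx0, hBe⟩ := h.exists_sylow_conj hA hR (le_sup_left.trans hn) (h.card B hB)
    (hsup ▸ le_sup_right)
  have hX : X ≤ R1 ⊔ A := by
    refine sup_le le_sup_right ?_
    have hb : x0 * a * x0⁻¹ ∈ B := hBe ▸ conj_mem_cj ha
    rw [h.eq_zpowers hB hb (fun e => ha1 (by simpa using e)), zpowers_le,
      show x0 * a * x0⁻¹ = ⁅x0, a⁆ * a by rw [commutatorElement_def]; group]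
    exact mul_mem (mem_sup_left ⟨φ ⟨x0, hx0⟩, ⟨_, rfl⟩, rfl⟩) (mem_sup_right ha)
  have hcard : Nat.card R ≤ Nat.card φ.range := by
    have h1 : Nat.card X ≤ Nat.card ↥(R1 ⊔ A : Subgroup G) :=
      Nat.le_of_dvd Nat.card_pos (card_dvd_of_le hX)
    rw [← hsup, sup_comm R A, sup_comm R1 A,
      Coprime.card_sup_of_coprime (le_sup_left.trans hn) (h.coprime_card hA hR),
      Coprime.card_sup_of_coprime hAR1 (h.coprime_card hA (hR.to_le hR1le)), hR1,
      card_map_of_injective R.subtype_injective] at h1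
    exact Nat.le_of_mul_le_mul_left h1 Nat.card_pos
  have hsurj : Function.Surjective φ :=
    MonoidHom.range_eq_top.1 (Subgroup.eq_top_of_le_card _ hcard)
  have hinj := Finite.injective_iff_surjective.2 hsurj
  intro x hx hxr hxc
  obtain ⟨y, hy, rfl, -⟩ := exists_lift h (MonoidHom.id G) hA hR (le_sup_left.trans hn) hsup
    (by rw [Subgroup.map_id]; exact hx) hxr
  have : φ ⟨y, hy⟩ = φ 1 := by
    rw [map_one]
    exact Subtype.ext (commutatorElement_eq_one_iff_mul_comm.2 (mem_centralizer_iff.1 hxc a ha).symm)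
  exact congrArg Subtype.val (hinj this)

/-- With nonabelian radicals on all lines, solvable subsystems have class at most two. -/
theorem cls2_of_nonabelian (h : Base p r D)
    (hnc : ∀ A ∈ D, ∀ B ∈ D, A ≠ B → ¬ RComm r ↥(A ⊔ B : Subgroup G)) : Cls2 r D := by
  haveI := Fact.mk h.hr
  intro K hK hKs A hA
  have d := h.radData hK hKs
  set P := Rd r K
  obtain ⟨a, ha, ha1⟩ := h.exists_ne_one hA.1
  have hAP : A ≤ normalizer (P : Set G) := hA.2.trans d.norm
  have hfix : ∀ y ∈ P, cj y A = A → y ∈ centralizer (A : Set G) := by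
    intro y hy hf
    refine mem_centralizer_iff.2 fun b hb => (commutatorElement_eq_one_iff_mul_comm.1 ?_).symm
    have h2 : ⁅y, b⁆ ∈ A := by
      rw [commutatorElement_def]; exact mul_mem (hf ▸ conj_mem_cj hb) (inv_mem hb)
    have h3 : ⁅y, b⁆ ∈ P := by
      rw [commutatorElement_def]
      have h4 := (Subgroup.mem_normalizer_iff.1 (hAP hb) y⁻¹).1 (inv_mem hy)
      have := mul_mem hy h4
      simpa [mul_assoc] using this
    exact (Subgroup.mem_bot).1
      ((Subgroup.inf_eq_bot_of_coprime (h.coprime_card hA.1 d.pg)).le ⟨h2, h3⟩)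
  -- abelian invariant subgroups of `P` are centralised by `A`
  have habl : ∀ Q : Subgroup G, Q ≤ P → A ≤ normalizer (Q : Set G) →
      (∀ x ∈ Q, ∀ y ∈ Q, Commute x y) → ∀ y ∈ Q, y ∈ centralizer (A : Set G) := by
    intro Q hQP hAQ hQc y hy
    refine hfix y (hQP hy) (by_contra fun hne => ?_)
    refine hnc A hA.1 _ (h.inv A hA.1 y) (Ne.symm hne) ?_
    intro x x' hx hx'
    have hle : A ⊔ cj y A ≤ Q ⊔ A := sup_le le_sup_right (cj_le_of_mem le_sup_right (mem_sup_left hy))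
    have hmem : ∀ z : ↥(A ⊔ cj y A : Subgroup G), IsR r z → (z : G) ∈ Q := fun z hz => by
      obtain ⟨w, hw, hwe, -⟩ := exists_lift h (MonoidHom.id G) hA.1 (d.pg.to_le hQP) hAQ rfl
        (by rw [Subgroup.map_id]; exact hle z.2) (hz.map (Subgroup.subtype _))
      exact (show w = (z : G) from hwe) ▸ hw
    exact Subtype.ext (hQc _ (hmem x hx) _ (hmem x' hx'))
  -- elements centralising `A` and all of `K` modulo the centre
  have hgen : ∀ x ∈ P, x ∈ centralizer (A : Set G) →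
      (∀ g ∈ P, ⁅x, g⁆ ∈ centralizer (K : Set G)) → x ∈ centralizer (K : Set G) := by
    intro x _ hxA hxg
    suffices K ≤ centralizer ({x} : Set G) from
      mem_centralizer_iff.2 fun k hk => mem_centralizer_singleton_iff.1 (this hk)
    refine hK.le_of_pts fun C hC => ?_
    obtain ⟨g, hg, rfl⟩ := h.exists_sylow_conj hA.1 d.pg hAP (h.card C hC.1)
      (by rw [d.sup A hA]; exact hC.2)
    intro c hc
    refine mem_centralizer_singleton_iff.2 ?_
    have h1 := mem_centralizer_iff.1 hxA _ (mem_cj.1 hc)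
    have h2 := mem_centralizer_iff.1 (hxg g hg) c (hC.2 hc)
    have e1 : x * c * x⁻¹ = ⁅x, g⁆ * c * ⁅x, g⁆⁻¹ := by
      calc x * c * x⁻¹ = ⁅x, g⁆ * (g * (x * (g⁻¹ * c * g)) * x⁻¹ * g⁻¹) * ⁅x, g⁆⁻¹ := by
            simp only [commutatorElement_def]; group
        _ = _ := by rw [← h1]; group
    rw [← h2, mul_inv_cancel_right] at e1
    calc c * x = (x * c * x⁻¹) * x := by rw [e1]
      _ = x * c := by group
  have hcenK : ∀ z ∈ P, (∀ g ∈ P, Commute g z) → z ∈ centralizer (A : Set G) →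
      z ∈ centralizer (K : Set G) := fun z hz hc hzA => hgen z hz hzA fun g hg => by
    rw [commutatorElement_eq_one_iff_mul_comm.2 (hc g hg).eq.symm]; exact one_mem _
  set Zc := P ⊓ centralizer (P : Set G) with hZc
  have hZcA : A ≤ normalizer (Zc : Set G) := by
    refine le_normalizer_of_cj_le fun b hb y hy => ?_
    have hb' := mem_cj.1 hy
    have hbP : ∀ g ∈ P, b⁻¹ * g * b ∈ P := fun g hg =>
      ((Subgroup.mem_normalizer_iff''.1 (hAP hb)) g).1 hg
    refine ⟨(Subgroup.mem_normalizer_iff''.1 (hAP hb) y).2 hb'.1, mem_centralizer_iff.2 fun g hg => ?_⟩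
    have := mem_centralizer_iff.1 hb'.2 _ (hbP g hg)
    calc g * y = b * ((b⁻¹ * g * b) * (b⁻¹ * y * b)) * b⁻¹ := by group
      _ = b * ((b⁻¹ * y * b) * (b⁻¹ * g * b)) * b⁻¹ := by rw [this]
      _ = y * g := by group
  have hZcK : ∀ z ∈ Zc, z ∈ centralizer (K : Set G) := fun z hz =>
    hcenK z hz.1 (fun g hg => mem_centralizer_iff.1 hz.2 g hg)
      (habl Zc inf_le_left hZcA (fun x hx y hy =>
        (mem_centralizer_iff.1 hx.2 y hy.1).symm) z hz)
  -- the commutator subgroup is central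
  have hPP : ⁅P, P⁆ ≤ P := Subgroup.commutator_le.2 fun x hx y hy => by
    rw [commutatorElement_def]; exact mul_mem (mul_mem (mul_mem hx hy) (inv_mem hx)) (inv_mem hy)
  have hderived : ⁅P, P⁆ ≤ Zc := by
    by_contra hnot
    obtain ⟨v, hv, hvW, hfixv⟩ := exists_fixed_coset (S := P) (P := ⁅P, P⁆) (W := ⁅P, P⁆ ⊓ Zc)
      (by rw [sup_eq_right.2 hPP]; exact d.pg) inf_le_left (fun hh => hnot (hh.trans inf_le_right))
      (Subgroup.le_normalizer_iff_commutator_le_left.2 (Subgroup.commutator_mono hPP le_rfl))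
    let Q : Subgroup G :=
      { carrier := {x | x ∈ ⁅P, P⁆ ∧ ∀ g ∈ P, ⁅x, g⁆ ∈ Zc}
        one_mem' := ⟨one_mem _, fun g _ => by rw [commutatorElement_one_left]; exact one_mem _⟩
        mul_mem' := fun {x y} hx hy => ⟨mul_mem hx.1 hy.1, fun g hg => by
          have e : ⁅x * y, g⁆ = x * ⁅y, g⁆ * x⁻¹ * ⁅x, g⁆ := by
            simp only [commutatorElement_def]; group
          rw [e, (mem_centralizer_iff.1 (hy.2 g hg).2 x (hPP hx.1)), mul_inv_cancel_right]
          exact mul_mem (hy.2 g hg) (hx.2 g hg)⟩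
        inv_mem' := fun {x} hx => ⟨inv_mem hx.1, fun g hg => by
          have e : ⁅x⁻¹, g⁆ = x⁻¹ * ⁅x, g⁆⁻¹ * x := by simp only [commutatorElement_def]; group
          rw [e, (mem_centralizer_iff.1 (inv_mem (hx.2 g hg)).2 x⁻¹ (inv_mem (hPP hx.1))),
            inv_mul_cancel_right]
          exact inv_mem (hx.2 g hg)⟩ }
    have hQc : ∀ x ∈ Q, ∀ y ∈ Q, Commute x y := by
      intro x hx y hy
      suffices ⁅P, P⁆ ≤ centralizer ({x} : Set G) from
        (mem_centralizer_singleton_iff.1 (this hy.1)).symm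
      refine Subgroup.commutator_le.2 fun g hg g' hg' => mem_centralizer_singleton_iff.2 ?_
      have e : x * ⁅g, g'⁆ * x⁻¹ = ⁅⁅x, g⁆ * g, ⁅x, g'⁆ * g'⁆ := by
        simp only [commutatorElement_def]; group
      have e2 : ∀ ζ ∈ Zc, ∀ η ∈ Zc, ⁅ζ * g, η * g'⁆ = ⁅g, g'⁆ := by
        intro ζ hζ η hη
        have z1 : ∀ w ∈ P, Commute ζ w := fun w hw => (mem_centralizer_iff.1 hζ.2 w hw).symm
        have z2 : ∀ w ∈ P, Commute η w := fun w hw => (mem_centralizer_iff.1 hη.2 w hw).symm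
        calc ⁅ζ * g, η * g'⁆ = ζ * (g * η) * g' * g⁻¹ * ζ⁻¹ * g'⁻¹ * η⁻¹ := by
              simp only [commutatorElement_def]; group
          _ = η * ((ζ * ⁅g, g'⁆) * g' * ζ⁻¹ * g'⁻¹) * η⁻¹ := by
              rw [← (z2 g hg).eq, ← mul_assoc ζ η g, (z1 η hη.1).eq]
              simp only [commutatorElement_def]; group
          _ = η * (⁅g, g'⁆ * ((ζ * g') * ζ⁻¹ * g'⁻¹)) * η⁻¹ := by
              rw [(z1 _ (hPP (commutator_mem_commutator hg hg'))).eq]; group
          _ = η * ⁅g, g'⁆ * η⁻¹ := by rw [(z1 g' hg').eq]; group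
          _ = ⁅g, g'⁆ := by
              rw [(z2 _ (hPP (commutator_mem_commutator hg hg'))).eq, mul_inv_cancel_right]
      calc ⁅g, g'⁆ * x = (x * ⁅g, g'⁆ * x⁻¹) * x := by
            rw [e, e2 _ (hx.2 g hg) _ (hx.2 g' hg')]
        _ = x * ⁅g, g'⁆ := by group
    have hQA : A ≤ normalizer (Q : Set G) := by
      refine le_normalizer_of_cj_le fun b hb y hy => ?_
      obtain ⟨hy1, hy2⟩ := mem_cj.1 hy
      have hbP : ∀ g ∈ P, b⁻¹ * g * b ∈ P := fun g hg =>
        ((Subgroup.mem_normalizer_iff''.1 (hAP hb)) g).1 hg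
      refine ⟨?_, fun g hg => ?_⟩
      · have hmap : (⁅P, P⁆ : Subgroup G).map (MulAut.conj b).toMonoidHom ≤ ⁅P, P⁆ := by
          rw [Subgroup.map_commutator]
          have : P.map (MulAut.conj b).toMonoidHom = P := cj_eq_of_normalizer (hAP hb)
          rw [this]
        have := hmap (mem_map_of_mem (MulAut.conj b).toMonoidHom hy1)
        simpa [mul_assoc] using this
      · have := hy2 _ (hbP g hg)
        have h3 : cj b Zc = Zc := cj_eq_of_normalizer (hZcA hb)
        have h4 := h3 ▸ conj_mem_cj (g := b) this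
        rwa [show b * ⁅b⁻¹ * y * b, b⁻¹ * g * b⁆ * b⁻¹ = ⁅y, g⁆ by
          simp only [commutatorElement_def]; group] at h4
    have hvQ : v ∈ Q := ⟨hv, fun g hg => (hfixv g hg).2⟩
    have hvK := hgen v (hPP hv) (habl Q (fun x hx => hPP hx.1) hQA hQc v hvQ)
      (fun g hg => hZcK _ (hvQ.2 g hg))
    exact hvW ⟨hv, hPP hv, centralizer_le (SetLike.coe_subset_coe.2 (rd_le r K)) hvK⟩
  refine ⟨fun x hx hxA => hgen x hx hxA fun g hg =>
    hZcK _ (hderived (commutator_mem_commutator hx hg)), fun x hx y hy => ?_⟩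
  exact centralizer_le (SetLike.coe_subset_coe.2 hA.2)
    (hZcK _ (hderived (commutator_mem_commutator hx hy)))

/-- When every line has abelian radical, the solvable group is a Frobenius group. -/
theorem centralizer_trivial (h : Base p r D) (hsol : Group.IsSolvable G)
    (hno : ∀ A ∈ D, ∀ B ∈ D, A ≠ B → ∀ x ∈ A ⊔ B, IsR r x → x ∈ centralizer (A : Set G) → x = 1)
    {A : Subgroup G} (hA : A ∈ D) {x : G} (hx : x ∈ Rd r (⊤ : Subgroup G))
    (hxc : x ∈ centralizer (A : Set G)) : x = 1 := by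
  classical
  haveI := Fact.mk h.hr
  haveI := Fact.mk h.hp
  haveI := Fintype.ofFinite G
  have hT : IsSub D (⊤ : Subgroup G) := by
    show sSup _ = ⊤
    rw [show pts D ⊤ = D from Set.ext fun C => ⟨fun hh => hh.1, fun hh => ⟨hh, le_top⟩⟩, h.gen]
  have d := h.radData hT (Group.isSolvable_of_isSolvable_injective (Subgroup.subtype_injective ⊤))
  set P := Rd r (⊤ : Subgroup G)
  obtain ⟨a, ha, ha1⟩ := h.exists_ne_one hA
  have hap : a ^ p = 1 := by
    rw [← h.card A hA]; exact orderOf_dvd_iff_pow_eq_one.1 (Subgroup.orderOf_dvd_natCard A ha)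
  have ha2 : a ^ 2 ≠ 1 := fun e => by
    rcases (Nat.dvd_prime h.hp).1
      (Nat.dvd_trans (dvd_refl _) (orderOf_dvd_of_pow_eq_one hap)) with e1 | e1
    · exact ha1 (orderOf_eq_one_iff.1 e1)
    · have := orderOf_dvd_of_pow_eq_one e
      rw [e1] at this
      exact h.hp2 ((Nat.prime_dvd_prime_iff_eq h.hp Nat.prime_two).1 this)
  have hPc : ∀ w ∈ P, cj w A = A → Commute w a := by
    intro w hw hf
    refine commutatorElement_eq_one_iff_mul_comm.1 ?_
    have h2 : ⁅w, a⁆ ∈ A := by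
      rw [commutatorElement_def]; exact mul_mem (hf ▸ conj_mem_cj ha) (inv_mem ha)
    have h3 : ⁅w, a⁆ ∈ P := by
      rw [commutatorElement_def]
      have h4 := (Subgroup.mem_normalizer_iff.1 (d.norm (mem_top a)) w⁻¹).1 (inv_mem hw)
      have := mul_mem hw h4
      simpa [mul_assoc] using this
    exact (Subgroup.mem_bot).1
      ((Subgroup.inf_eq_bot_of_coprime (h.coprime_card hA d.pg)).le ⟨h2, h3⟩)
  -- products of two conjugates
  have hprod : ∀ k ∈ P, ∃ y ∈ P, a * (k * a * k⁻¹) = y * a ^ 2 * y⁻¹ := by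
    intro k hk
    by_cases hf : cj k A = A
    · exact ⟨1, one_mem _, by rw [(hPc k hk hf).eq, mul_inv_cancel_right]; simp [pow_two]⟩
    have hB := h.inv A hA k
    obtain ⟨R, hR, hRle, hn, hsup⟩ := h.line A hA _ hB (Ne.symm hf)
    obtain ⟨x1, hx1, hxe⟩ := h.exists_sylow_conj hA hR (le_sup_left.trans hn) (h.card _ hB)
      (hsup ▸ le_sup_right)
    have hRP : R ≤ P := fun w hw => d.mem w (mem_top w) (isR_of_pgroup hR hw)
    have he : k * a * k⁻¹ = x1 * a * x1⁻¹ := by
      have h1 : cj (x1⁻¹ * k) A = A := by rw [← cj_cj, hxe, cj_cj, inv_mul_cancel, cj_one]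
      have h2 := (hPc _ (mul_mem (inv_mem (hRP hx1)) hk) h1).eq
      calc k * a * k⁻¹ = x1 * ((x1⁻¹ * k) * a) * k⁻¹ := by group
        _ = x1 * (a * (x1⁻¹ * k)) * k⁻¹ := by rw [h2]
        _ = x1 * a * x1⁻¹ := by group
    have hna : ∀ b ∈ A, ∀ w ∈ R, b * w * b⁻¹ ∈ R := fun b hb w hw =>
      (Subgroup.mem_normalizer_iff.1 (hn (mem_sup_left hb)) w).1 hw
    have ha2A : a ^ 2 ∈ A := pow_mem ha 2
    have htgt : a * x1 * a * x1⁻¹ * (a ^ 2)⁻¹ ∈ R := by
      rw [show a * x1 * a * x1⁻¹ * (a ^ 2)⁻¹ = (a * x1 * a⁻¹) * (a ^ 2 * x1⁻¹ * (a ^ 2)⁻¹) by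
        simp only [pow_two]; group]
      exact mul_mem (hna a ha _ hx1) (hna _ ha2A _ (inv_mem hx1))
    have hφm : ∀ y ∈ R, ⁅y, a ^ 2⁆ ∈ R := fun y hy => by
      rw [commutatorElement_def, mul_assoc, mul_assoc, ← mul_assoc (a ^ 2)]
      exact mul_mem hy (hna _ ha2A _ (inv_mem hy))
    let φ : R → R := fun y => ⟨⁅(y : G), a ^ 2⁆, hφm y y.2⟩
    have hinj : Function.Injective φ := by
      intro y z hyz
      have h1 : ⁅(y : G), a ^ 2⁆ = ⁅(z : G), a ^ 2⁆ := congrArg Subtype.val hyz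
      rw [commutatorElement_def, commutatorElement_def] at h1
      have h2 : ((z : G)⁻¹ * y) * a ^ 2 = a ^ 2 * ((z : G)⁻¹ * y) := by
        have h3 := mul_right_cancel h1
        calc ((z : G)⁻¹ * y) * a ^ 2 = (z : G)⁻¹ * ((y : G) * a ^ 2 * (y : G)⁻¹) * y := by group
          _ = (z : G)⁻¹ * ((z : G) * a ^ 2 * (z : G)⁻¹) * y := by rw [h3]
          _ = a ^ 2 * ((z : G)⁻¹ * y) := by group
      have hzy : (z : G)⁻¹ * y ∈ R := mul_mem (inv_mem z.2) y.2
      have h4 : (z : G)⁻¹ * y = 1 := by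
        refine hno A hA _ hB (Ne.symm hf) _ (hRle hzy) (isR_of_pgroup hR hzy) ?_
        rw [h.eq_zpowers hA ha2A ha2, Signalizer.centralizer_zpowers]
        exact mem_centralizer_singleton_iff.2 h2
      exact Subtype.ext (inv_mul_eq_one.1 h4).symm
    obtain ⟨⟨y, hy⟩, hye⟩ := (Finite.injective_iff_surjective.1 hinj) ⟨_, htgt⟩
    refine ⟨y, hRP hy, ?_⟩
    have h1 : ⁅y, a ^ 2⁆ = a * x1 * a * x1⁻¹ * (a ^ 2)⁻¹ := congrArg Subtype.val hye
    calc a * (k * a * k⁻¹) = (a * x1 * a * x1⁻¹ * (a ^ 2)⁻¹) * a ^ 2 := by rw [he]; group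
      _ = y * a ^ 2 * y⁻¹ := by rw [← h1, commutatorElement_def]; group
  let S : Finset G := (Finset.univ.filter (· ∈ P)).image fun g => g * a * g⁻¹
  have hS : ∀ z, z ∈ S ↔ ∃ g ∈ P, g * a * g⁻¹ = z := fun z => by simp [S]
  let C2 : Finset G := S.image fun z => z ^ 2
  have hmul : ∀ u ∈ S, ∀ c ∈ S, u * c ∈ C2 := by
    intro u hu c hc
    obtain ⟨g, hg, rfl⟩ := (hS u).1 hu
    obtain ⟨g', hg', rfl⟩ := (hS c).1 hc
    obtain ⟨y, hy, he⟩ := hprod (g⁻¹ * g') (mul_mem (inv_mem hg) hg')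
    refine Finset.mem_image.2 ⟨(g * y) * a * (g * y)⁻¹, (hS _).2 ⟨_, mul_mem hg hy, rfl⟩, ?_⟩
    rw [conj_pow]
    calc g * y * a ^ 2 * (g * y)⁻¹ = g * (y * a ^ 2 * y⁻¹) * g⁻¹ := by group
      _ = g * a * g⁻¹ * (g' * a * g'⁻¹) := by rw [← he]; group
  have himg : ∀ c ∈ S, S.image (· * c) = C2 := fun c hc =>
    Finset.eq_of_subset_of_card_le
      (Finset.image_subset_iff.2 fun u hu => hmul u hu c hc)
      (Finset.card_image_le.trans
        (Finset.card_image_of_injective _ (mul_left_injective c)).ge)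
  let Tm : Submonoid G :=
    { carrier := {t | ∀ s ∈ S, s * t ∈ S}
      one_mem' := fun s hs => by simpa using hs
      mul_mem' := fun {t t'} ht ht' s hs => by rw [← mul_assoc]; exact ht' _ (ht s hs) }
  let T : Subgroup G :=
    { Tm with
      inv_mem' := fun {t} ht => by
        have h1 : t ^ (orderOf t - 1) ∈ Tm := pow_mem ht _
        have h2 : t ^ (orderOf t - 1) = t⁻¹ := by
          refine eq_inv_of_mul_eq_one_left ?_
          rw [← pow_succ, Nat.sub_add_cancel (orderOf_pos t), pow_orderOf_eq_one]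
        rwa [h2] at h1 }
  have haS : a ∈ S := (hS a).2 ⟨1, one_mem _, by simp⟩
  have hgenT : ∀ c ∈ S, c * a⁻¹ ∈ T := by
    intro c hc s hs
    have h1 : s * c ∈ S.image (· * a) := by rw [himg a haS, ← himg c hc]; exact Finset.mem_image_of_mem _ hs
    obtain ⟨s', hs', he⟩ := Finset.mem_image.1 h1
    rw [← mul_assoc, ← he, mul_inv_cancel_right]
    exact hs'
  have hSa : ∀ s ∈ S, a * s * a⁻¹ ∈ S ∧ a⁻¹ * s * a ∈ S := by
    intro s hs
    obtain ⟨g, hg, rfl⟩ := (hS s).1 hs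
    refine ⟨(hS _).2 ⟨a * g * a⁻¹, ?_, by group⟩, (hS _).2 ⟨a⁻¹ * g * a, ?_, by group⟩⟩
    · exact (Subgroup.mem_normalizer_iff.1 (d.norm (mem_top a)) g).1 hg
    · exact (Subgroup.mem_normalizer_iff''.1 (d.norm (mem_top a)) g).1 hg
  have haT : a ∈ normalizer (T : Set G) := by
    refine mem_normalizer_of_cj (Subgroup.eq_of_le_of_card_ge ?_ (card_cj a T).ge)
    intro t ht s hs
    have h1 := (mem_cj.1 ht) _ (hSa s hs).2
    have h2 := (hSa _ h1).1
    rwa [show a * (a⁻¹ * s * a * (a⁻¹ * t * a)) * a⁻¹ = s * t by group] at h2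
  have hTA : T ⊔ A = ⊤ := by
    rw [eq_top_iff, ← h.gen]
    refine sSup_le fun C hC => ?_
    obtain ⟨g, hg, rfl⟩ := h.exists_sylow_conj hA d.pg (le_top.trans d.norm) (h.card C hC)
      (by rw [d.sup A ⟨hA, le_top⟩]; exact le_top)
    have hb : g * a * g⁻¹ ∈ cj g A := conj_mem_cj ha
    rw [h.eq_zpowers hC hb (fun e => ha1 (by simpa using e)), zpowers_le,
      show g * a * g⁻¹ = (g * a * g⁻¹ * a⁻¹) * a by group]
    exact mul_mem (mem_sup_left (hgenT _ ((hS _).2 ⟨g, hg, rfl⟩))) (mem_sup_right ha)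
  have hcount : Nat.card P ≤ Nat.card T := by
    have hAT : A ≤ normalizer (T : Set G) := by
      rw [h.eq_zpowers hA ha ha1]; exact zpowers_le.2 haT
    have hTr : Nat.card G ≤ Nat.card A * Nat.card T := by
      rw [← Subgroup.card_top (G := G), ← hTA, sup_comm]
      refine le_of_le_of_eq (le_of_eq ?_) rfl
      refine Coprime.card_sup_of_disjoint hAT ?_
      by_contra hne
      obtain ⟨b, ⟨hb, hbT⟩, hb1⟩ : ∃ b ∈ A ⊓ T, b ≠ 1 := by
        by_contra hcc; push Not at hcc; exact hne ((Subgroup.eq_bot_iff_forall _).2 hcc)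
      have haT' : a ∈ T := by
        have := h.eq_zpowers hA hb hb1 ▸ ha
        exact zpowers_le.2 hbT this
      obtain ⟨g, hg, hge⟩ := (hS _).1 (haT' a haS)
      have h5 : a = ⁅g, a⁆ := by
        rw [commutatorElement_def, hge]; group
      have h6 : a ∈ P := by
        rw [h5, commutatorElement_def]
        have h4 := (Subgroup.mem_normalizer_iff.1 (d.norm (mem_top a)) g⁻¹).1 (inv_mem hg)
        have := mul_mem hg h4
        simpa [mul_assoc] using this
      exact ha1 ((Subgroup.mem_bot).1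
        ((Subgroup.inf_eq_bot_of_coprime (h.coprime_card hA d.pg)).le ⟨ha, h6⟩))
    have hG : Nat.card A * Nat.card P = Nat.card G := by
      rw [← Coprime.card_sup_of_coprime (le_top.trans d.norm) (h.coprime_card hA d.pg), sup_comm,
        d.sup A ⟨hA, le_top⟩, Subgroup.card_top]
    exact Nat.le_of_mul_le_mul_left (hG ▸ hTr) Nat.card_pos
  have hTS : Nat.card T ≤ S.card := by
    rw [← Nat.card_eq_finsetCard]
    exact Nat.card_le_card_of_injective (fun t : T => (⟨a * t, t.2 a haS⟩ : S))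
      fun t t' he => Subtype.ext (mul_left_cancel (congrArg Subtype.val he))
  have hPS : (Finset.univ.filter (· ∈ P)).card ≤ S.card := by
    refine le_trans (le_of_eq ?_) (hcount.trans hTS)
    rw [Nat.card_eq_fintype_card, Fintype.card_subtype]
  have hinj := Finset.injOn_of_card_image_eq (le_antisymm Finset.card_image_le hPS)
  exact hinj (by simpa using hx) (by simp) (by
    show x * a * x⁻¹ = 1 * a * 1⁻¹
    rw [← mem_centralizer_iff.1 hxc a ha]; group)

/-- The main theorem. -/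
theorem main {F : Type v} [Group F] [Finite F] (hG : ¬ IsMulCommutative G) (hp : p.Prime)
    (hp2 : p ≠ 2) (hDp : ∀ A ∈ D, Nat.card ↥A = p) (hDinv : ∀ A ∈ D, ∀ g : G, cj g A ∈ D)
    (hDgen : sSup D = ⊤) (hF : Odd (Nat.card F))
    (hpair : ∀ A ∈ D, ∀ B ∈ D, A ≠ B → Nonempty (↥(A ⊔ B : Subgroup G) ≃* F)) :
    Odd (Nat.card (G ⧸ Subgroup.center G)) ∧
      ∃ H : Subgroup (G ⧸ Subgroup.center G), Cfsg.IsFrobeniusComplement H := by
  haveI := Fact.mk hp
  have hcyc : ∀ A ∈ D, IsMulCommutative A := fun A hA => by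
    haveI := isCyclic_of_prime_card (hDp A hA)
    exact IsCyclic.isMulCommutative
  have hFc : ∀ A ∈ D, ∀ B ∈ D, A ≠ B → ¬ IsMulCommutative ↥(A ⊔ B : Subgroup G) := by
    intro A hA B hB hne hcom
    refine hG ?_
    obtain ⟨e⟩ := hpair A hA B hB hne
    have hall : ∀ C ∈ D, ∀ C' ∈ D, ∀ x ∈ C, ∀ y ∈ C', x * y = y * x := by
      intro C hC C' hC' x hx y hy
      rcases eq_or_ne C C' with rfl | hne'
      · exact congrArg Subtype.val ((hcyc C hC).is_comm.comm ⟨x, hx⟩ ⟨y, hy⟩)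
      · obtain ⟨e'⟩ := hpair C hC C' hC' hne'
        have hcom' : ∀ u w : ↥(C ⊔ C' : Subgroup G), u * w = w * u := fun u w =>
          (e'.trans e.symm).injective (by rw [map_mul, map_mul, hcom.is_comm.comm])
        exact congrArg Subtype.val (hcom' ⟨x, mem_sup_left hx⟩ ⟨y, mem_sup_right hy⟩)
    have hcen : (⊤ : Subgroup G) ≤ center G := by
      rw [← hDgen]
      refine sSup_le fun C hC x hx => Subgroup.mem_center_iff.2 fun g => ?_
      suffices (⊤ : Subgroup G) ≤ centralizer ({x} : Set G) from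
        mem_centralizer_singleton_iff.1 (this (mem_top g))
      rw [← hDgen]
      exact sSup_le fun C' hC' y hy => mem_centralizer_singleton_iff.2 (hall C' hC' C hC y hy x hx)
    exact ⟨⟨fun x y => (Subgroup.mem_center_iff.1 (hcen (mem_top y)) x)⟩⟩
  have hP : Pairs p (Nat.card F) D := ⟨hp, hp2, hDp, hDinv, hDgen, hF, fun A hA B hB hne =>
    ⟨Nat.card_congr (hpair A hA B hB hne).some.toEquiv, hFc A hA B hB hne⟩⟩
  obtain ⟨A, hA, B, hB, hAB⟩ : ∃ A ∈ D, ∃ B ∈ D, A ≠ B := by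
    by_contra hcon
    push Not at hcon
    refine hG ?_
    rcases D.eq_empty_or_nonempty with he | ⟨A, hA⟩
    · have h1 : (⊤ : Subgroup G) ≤ ⊥ := by rw [← hDgen, he, sSup_empty]
      exact ⟨⟨fun x y => by
        rw [(Subgroup.mem_bot).1 (h1 (mem_top x)), (Subgroup.mem_bot).1 (h1 (mem_top y))]⟩⟩
    · have h1 : (⊤ : Subgroup G) ≤ A := by
        rw [← hDgen]; exact sSup_le fun C hC => (hcon C hC A hA).le
      exact ⟨⟨fun x y => congrArg Subtype.val
        ((hcyc A hA).is_comm.comm ⟨x, h1 (mem_top x)⟩ ⟨y, h1 (mem_top y)⟩)⟩⟩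
  obtain ⟨r, h⟩ := hP.exists_base hA hB hAB
  haveI := Fact.mk h.hr
  have hdich : Cls2 r D ∨
      (∀ A ∈ D, ∀ B ∈ D, A ≠ B → ∀ x ∈ A ⊔ B, IsR r x → x ∈ centralizer (A : Set G) → x = 1) := by
    by_cases hc : RComm r F
    · exact Or.inr fun C hC C' hC' hne =>
        line_abelian h hC hC' hne (hc.congr (hpair C hC C' hC' hne).some.symm)
    · exact Or.inl (cls2_of_nonabelian h fun C hC C' hC' hne hr =>
        hc (hr.congr (hpair C hC C' hC' hne).some))
  have hsol : Group.IsSolvable G := isSolvable_of_base h (by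
    rcases hdich with h1 | h1
    · exact Or.inl h1
    · exact Or.inr ⟨h1, hp.ne_zero⟩)
  have hT : IsSub D (⊤ : Subgroup G) := by
    show sSup _ = ⊤
    rw [show pts D ⊤ = D from Set.ext fun C => ⟨fun hh => hh.1, fun hh => ⟨hh, le_top⟩⟩, h.gen]
  have hTs : Group.IsSolvable (⊤ : Subgroup G) :=
    Group.isSolvable_of_isSolvable_injective (Subgroup.subtype_injective ⊤)
  have d := h.radData hT hTs
  set P := Rd r (⊤ : Subgroup G) with hPdef
  obtain ⟨a, ha, ha1⟩ := h.exists_ne_one hA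
  have hcenP : ∀ x ∈ P, Commute a x → x ∈ center G := by
    intro x hx hc
    have hxc : x ∈ centralizer (A : Set G) := by
      rw [h.eq_zpowers hA ha ha1, Signalizer.centralizer_zpowers]
      exact mem_centralizer_singleton_iff.2 hc.eq.symm
    rcases hdich with h1 | h1
    · exact Subgroup.mem_center_iff.2 fun g =>
        mem_centralizer_iff.1 ((h1 ⊤ hT hTs A ⟨hA, le_top⟩).1 x hx hxc) g (mem_top g)
    · rw [centralizer_trivial h hsol h1 hA hx hxc]; exact one_mem _
  have hdisj : ∀ z, z ∈ A → z ∈ P → z = 1 := fun z h1 h2 => (Subgroup.mem_bot).1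
    ((Subgroup.inf_eq_bot_of_coprime (h.coprime_card hA d.pg)).le ⟨h1, h2⟩)
  have hdec : ∀ g : G, ∃ y ∈ P, ∃ e ∈ A, g = y * e := by
    intro g
    have hg : g ∈ P ⊔ A := by rw [d.sup A ⟨hA, le_top⟩]; exact mem_top g
    rw [← SetLike.mem_coe,
      Subgroup.coe_mul_of_right_le_normalizer_left P A (le_top.trans d.norm)] at hg
    obtain ⟨y, hy, e, he, rfl⟩ := hg
    exact ⟨y, hy, e, he, rfl⟩
  have hAc : ∀ e ∈ A, Commute e a := fun e he =>
    congrArg Subtype.val ((hcyc A hA).is_comm.comm ⟨e, he⟩ ⟨a, ha⟩)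
  have hnotA : ∀ e ∈ A, e ∈ center G → e = 1 := by
    intro e he hec
    by_contra he1
    obtain ⟨b, hb, hb1⟩ := h.exists_ne_one hB
    exact hAB (h.eq_of_commute hA hB he he1 hb hb1
      ((Subgroup.mem_center_iff.1 hec b).symm))
  have hZP : center G ≤ P := by
    intro z hz
    obtain ⟨y, hy, e, he, rfl⟩ := hdec z
    have hc : Commute a y := by
      have h1 : Commute a (y * e) := (Subgroup.mem_center_iff.1 hz a)
      have h2 := h1.mul_right ((hAc e he).symm.inv_right)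
      rwa [mul_inv_cancel_right] at h2
    have hec : e ∈ center G := by
      have := mul_mem (inv_mem (hcenP y hy hc)) hz
      rwa [inv_mul_cancel_left] at this
    rw [hnotA e he hec, mul_one]; exact hy
  have hodd : Odd (Nat.card G) := by
    have hG : Nat.card A * Nat.card P = Nat.card G := by
      rw [← Coprime.card_sup_of_coprime (le_top.trans d.norm) (h.coprime_card hA d.pg), sup_comm,
        d.sup A ⟨hA, le_top⟩, Subgroup.card_top]
    obtain ⟨k, hk⟩ := d.pg.exists_card_eq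
    rw [← hG, hk, h.card A hA]
    exact (hp.odd_of_ne_two hp2).mul ((h.hr.odd_of_ne_two h.hr2).pow)
  refine ⟨Odd.of_dvd_nat hodd (Subgroup.card_quotient_dvd_card _), ?_⟩
  set f := QuotientGroup.mk' (center G) with hf
  refine ⟨A.map f, ?_, ?_, ?_⟩
  · intro hb
    have := (Subgroup.mem_bot).1 (hb ▸ mem_map_of_mem f ha)
    exact ha1 (hnotA a ha ((QuotientGroup.eq_one_iff a).1 this))
  · intro htop
    obtain ⟨b, hb, hb1⟩ := h.exists_ne_one hB
    obtain ⟨e, he, hee⟩ := (htop.symm ▸ mem_top (f b) : f b ∈ A.map f)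
    have hz : e⁻¹ * b ∈ center G := QuotientGroup.eq.1 hee
    refine hAB (h.eq_of_commute hA hB ha ha1 hb hb1 ?_)
    have h1 : Commute a (e⁻¹ * b) := (Subgroup.mem_center_iff.1 hz a)
    have h2 := (hAc e he).symm.mul_right h1
    rwa [mul_inv_cancel_left] at h2
  · intro g hg
    obtain ⟨g, rfl⟩ := QuotientGroup.mk'_surjective (center G) g
    rw [Subgroup.eq_bot_iff_forall]
    rintro w ⟨hw1, hw2⟩
    by_contra hwne
    obtain ⟨e1, he1, rfl⟩ := hw1
    rw [← cj_eq_smul] at hw2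
    replace hw2 := mem_cj.1 hw2
    obtain ⟨e2, he2, he2e⟩ := hw2
    obtain ⟨y, hy, e, he, rfl⟩ := hdec g
    refine hg ?_
    have h1 : e1⁻¹ * ((y * e) * e2 * (y * e)⁻¹) ∈ center G := by
      rw [← QuotientGroup.eq_one_iff]
      show f (e1⁻¹ * ((y * e) * e2 * (y * e)⁻¹)) = 1
      rw [map_mul, map_mul, map_mul, map_inv, map_inv, he2e]; simp only [hf]; group
    have hcomm : ∀ u ∈ A, ∀ w ∈ A, Commute u w := fun u hu w hw =>
      congrArg Subtype.val ((hcyc A hA).is_comm.comm ⟨u, hu⟩ ⟨w, hw⟩)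
    have h2 : (y * e) * e2 * (y * e)⁻¹ = y * e2 * y⁻¹ := by
      calc (y * e) * e2 * (y * e)⁻¹ = y * (e * e2) * e⁻¹ * y⁻¹ := by group
        _ = y * e2 * y⁻¹ := by rw [(hcomm e he e2 he2).eq]; group
    rw [h2] at h1
    set ζ := e1⁻¹ * (y * e2 * y⁻¹) with hζ
    have hyP : ∀ u ∈ A, u * y * u⁻¹ ∈ P := fun u hu =>
      (Subgroup.mem_normalizer_iff.1 (d.norm (mem_top u)) y).1 hy
    have h3 : e1⁻¹ * e2 ∈ P := by
      have h4 : e2⁻¹ * y * e2 * y⁻¹ ∈ P := mul_mem (by simpa using hyP _ (inv_mem he2)) (inv_mem hy)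
      have h5 := mul_mem (hZP h1) (inv_mem h4)
      rwa [hζ, show e1⁻¹ * (y * e2 * y⁻¹) * (e2⁻¹ * y * e2 * y⁻¹)⁻¹ = e1⁻¹ * e2 by group] at h5
    have he12 : e1 = e2 := inv_mul_eq_one.1 (hdisj _ (mul_mem (inv_mem he1) he2) h3)
    subst he12
    have hpow : e1 ^ p = 1 := by
      rw [← h.card A hA]; exact orderOf_dvd_iff_pow_eq_one.1 (Subgroup.orderOf_dvd_natCard A he1)
    have he11 : e1 ≠ 1 := fun e' => hwne (by rw [e']; exact map_one f)
    have h6 : (e1 * ζ) ^ p = 1 := by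
      rw [show e1 * ζ = y * e1 * y⁻¹ by rw [hζ]; group, conj_pow, hpow]; simp
    have hcζ : Commute e1 ζ := Subgroup.mem_center_iff.1 h1 e1
    rw [hcζ.mul_pow, hpow, one_mul] at h6
    obtain ⟨k, hk⟩ := isR_of_pgroup d.pg (hZP h1)
    have hζ1 : ζ = 1 := orderOf_eq_one_iff.1 (Nat.eq_one_of_dvd_coprimes
      (Nat.Coprime.pow_left k ((Nat.coprime_primes h.hr h.hp).2 h.hpr.symm))
      (orderOf_dvd_of_pow_eq_one hk) (orderOf_dvd_of_pow_eq_one h6))
    have h7 : y * e1 * y⁻¹ = e1 := by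
      rw [show y * e1 * y⁻¹ = e1 * ζ by rw [hζ]; group, hζ1, mul_one]
    have h8 : Commute a y := by
      have hz : A = zpowers e1 := h.eq_zpowers hA he1 he11
      obtain ⟨i, hi⟩ := mem_zpowers_iff.1 (hz ▸ ha)
      rw [← hi]
      have h9 : Commute y e1 := by
        calc y * e1 = (y * e1 * y⁻¹) * y := by group
          _ = e1 * y := by rw [h7]
      exact h9.symm.zpow_left i
    exact ⟨e, he, by
      show f e = f (y * e)
      rw [map_mul]
      rw [show f y = 1 from (QuotientGroup.eq_one_iff y).2 (hcenP y hy h8), one_mul]⟩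

end Cfsg.Agent.H73.Fis
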