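import Cfsg.Agent.H73.Fis.Base

/-!
# Solvable groups generated by a line system: `r`-group by order `p`
-/

set_option autoImplicit false
set_option linter.style.haveILetI false

namespace Cfsg.Agent.H73.Fis

open Subgroup
open scoped Pointwise

universe u

theorem pgroup_or_coprime {G : Type u} [Group G] [Finite G] (N : Subgroup G) [N.Normal]
    (hab : IsMulCommutative N)
    (hmin : ∀ M : Subgroup G, M.Normal → M ≤ N → M = ⊥ ∨ M = N) {r : ℕ} (hr : r.Prime) :
    IsPGroup r N ∨ (Nat.card N).Coprime r := by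
  haveI := Fact.mk hr
  obtain ⟨P⟩ : Nonempty (Sylow r N) := inferInstance
  haveI : (P : Subgroup N).Normal := ⟨fun x hx g => by
    have : g * x * g⁻¹ = x := by rw [hab.is_comm.comm g x, mul_inv_cancel_right]
    rwa [this]⟩
  haveI := P.characteristic_of_normal inferInstance
  rcases MinNormal.characteristic_eq_bot_or_top N hmin (P : Subgroup N) with h | h
  · right
    refine Nat.Coprime.symm ((Nat.Prime.coprime_iff_not_dvd hr).2 fun hd => ?_)
    have := P.card_eq_multiplicity
    rw [h, Subgroup.card_bot] at this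
    have h2 : 0 < (Nat.card N).factorization r := hr.factorization_pos_of_dvd Nat.card_pos.ne' hd
    exact absurd this (Nat.one_lt_pow h2.ne' hr.one_lt).ne
  · left
    have := P.2
    rw [h] at this
    exact this.of_surjective (Subgroup.topEquiv (G := N)).toMonoidHom
      (Subgroup.topEquiv (G := N)).surjective

theorem exists_rad_aux (n : ℕ) : ∀ (G : Type u) [Group G] [Finite G] (p r : ℕ)
    (D : Set (Subgroup G)), Nat.card G = n → Base p r D → Group.IsSolvable G →
    ∃ P : Subgroup G, P.Normal ∧ IsPGroup r P ∧ ∀ A ∈ D, P ⊔ A = ⊤ := by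
  induction n using Nat.strong_induction_on with
  | _ n ih =>
  intro G _ _ p r D hn h hsol
  haveI := Fact.mk h.hr
  rcases D.eq_empty_or_nonempty with hD | ⟨A0, hA0⟩
  · exact ⟨⊥, inferInstance, IsPGroup.of_bot, fun A hA => by simp [hD] at hA⟩
  haveI : Nontrivial G := by
    obtain ⟨a, ha, ha1⟩ := h.exists_ne_one hA0
    exact ⟨a, 1, ha1⟩
  obtain ⟨N, hNn, hN1, hmin⟩ := MinNormal.exists_minimal_normal (G := G)
  haveI := hNn
  haveI : Group.IsSolvable N := inferInstance
  have hab := MinNormal.isMulCommutative N hmin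
  have hcases := pgroup_or_coprime N hab hmin h.hr
  by_cases hle : ∃ A ∈ D, A ≤ N
  · obtain ⟨A, hA, hAN⟩ := hle
    have hall : ∀ B ∈ D, B ≤ N := fun B hB => by
      obtain ⟨g, rfl⟩ := h.conj_all hA hB
      intro x hx
      have h1 := hNn.conj_mem _ (hAN (mem_cj.1 hx)) g
      simpa [mul_assoc] using h1
    refine ⟨⊥, inferInstance, IsPGroup.of_bot, fun B hB => ?_⟩
    rw [bot_sup_eq]
    refine eq_top_iff.2 ?_
    rw [← h.gen]
    refine sSup_le fun C hC => ?_
    obtain ⟨c, hc, hc1⟩ := h.exists_ne_one hC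
    obtain ⟨b, hb, hb1⟩ := h.exists_ne_one hB
    have hcb : Commute b c := by
      have := hab.is_comm.comm ⟨b, hall B hB hb⟩ ⟨c, hall C hC hc⟩
      exact congrArg Subtype.val this
    rw [h.eq_of_commute hB hC hb hb1 hc hc1 hcb]
  push Not at hle
  have hinj : ∀ A ∈ D, ∀ a ∈ A, QuotientGroup.mk' N a = 1 → a = 1 := fun A hA a ha he => by
    by_contra ha1
    exact hle A hA (h.le_of_mem hA ha ha1 ((QuotientGroup.eq_one_iff a).1 he))
  have hQ := h.map (QuotientGroup.mk' N) (QuotientGroup.mk'_surjective N) hinj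
  have hlt : Nat.card (G ⧸ N) < n := by
    rw [← hn, Subgroup.card_eq_card_quotient_mul_card_subgroup N]
    exact lt_mul_of_one_lt_right Nat.card_pos ((Subgroup.one_lt_card_iff_ne_bot N).2 hN1)
  obtain ⟨Pb, hPn, hPr, hPsup⟩ := ih _ hlt (G ⧸ N) p r _ rfl hQ inferInstance
  haveI := hPn
  set W := Pb.comap (QuotientGroup.mk' N) with hWdef
  haveI hWn : W.Normal := hPn.comap _
  have hNW : N ≤ W := fun x hx => by
    show QuotientGroup.mk' N x ∈ Pb
    rw [show QuotientGroup.mk' N x = 1 from (QuotientGroup.eq_one_iff x).2 hx]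
    exact one_mem _
  have hWA : ∀ A ∈ D, W ⊔ A = ⊤ := fun A hA => by
    have h1 := hPsup _ ⟨A, hA, rfl⟩
    rw [← Subgroup.map_comap_eq_self_of_surjective (QuotientGroup.mk'_surjective N) Pb,
      ← Subgroup.map_sup] at h1
    have h2 := congrArg (Subgroup.comap (QuotientGroup.mk' N)) h1
    rw [Subgroup.comap_map_eq, QuotientGroup.ker_mk', Subgroup.comap_top,
      sup_eq_left.2 (hNW.trans le_sup_left)] at h2
    exact h2
  rcases hcases with hNr | hNc
  · refine ⟨W, hWn, ?_, hWA⟩
    exact hPr.comap_of_ker_isPGroup _ (by rw [QuotientGroup.ker_mk']; exact hNr)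
  -- `N` is an `r'`-group, hence centralised by every member of `D`
  have hnorm : ∀ A ∈ D, ∀ x ∈ N, cj x A = A := by
    intro A hA x hx
    by_contra hne
    obtain ⟨R, hR, hRle, hn', hsup⟩ := h.line A hA _ (h.inv A hA x) (Ne.symm hne)
    have hle2 : A ⊔ cj x A ≤ A ⊔ N :=
      sup_le le_sup_left (cj_le_of_mem le_sup_left (mem_sup_right hx))
    have hd : Nat.card R ∣ Nat.card A * Nat.card N := by
      refine (card_dvd_of_le (hRle.trans hle2)).trans (dvd_of_eq ?_)
      refine Coprime.card_sup_of_disjoint Subgroup.le_normalizer_of_normal ?_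
      by_contra hb
      obtain ⟨a, ⟨ha, haN⟩, ha1⟩ : ∃ a ∈ A ⊓ N, a ≠ 1 := by
        by_contra hc; push Not at hc; exact hb ((Subgroup.eq_bot_iff_forall _).2 hc)
      exact hle A hA (h.le_of_mem hA ha ha1 haN)
    obtain ⟨k, hk⟩ := hR.exists_card_eq
    have hcop : (Nat.card R).Coprime (Nat.card A * Nat.card N) := by
      rw [hk, h.card A hA]
      exact Nat.Coprime.pow_left _ (Nat.Coprime.mul_right ((Nat.coprime_primes h.hr h.hp).2 h.hpr.symm)
        hNc.symm)
    have hR1 : R = ⊥ := Subgroup.card_eq_one.1 (Nat.Coprime.eq_one_of_dvd hcop hd)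
    rw [hR1, bot_sup_eq] at hsup
    have hle3 : cj x A ≤ A := le_sup_right.trans hsup.symm.le
    exact hne (Subgroup.eq_of_le_of_card_ge hle3 (card_cj x A).ge)
  have hcen : ∀ x ∈ N, x ∈ center G := by
    intro x hx
    refine Subgroup.mem_center_iff.2 fun g => ?_
    suffices (⊤ : Subgroup G) ≤ centralizer ({x} : Set G) from
      Subgroup.mem_centralizer_singleton_iff.1 (this (mem_top g))
    rw [← h.gen]
    refine sSup_le fun A hA a ha => Subgroup.mem_centralizer_singleton_iff.2 ?_
    have h1 : a * x * a⁻¹ * x⁻¹ ∈ N := N.mul_mem (hNn.conj_mem x hx a) (N.inv_mem hx)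
    have h2 : a * x * a⁻¹ * x⁻¹ ∈ A := by
      have h3 := conj_mem_cj (g := x) (A.inv_mem ha)
      rw [hnorm A hA x hx] at h3
      have := A.mul_mem ha h3
      simpa [mul_assoc] using this
    have h4 : a * x * a⁻¹ * x⁻¹ = 1 := by
      by_contra hne
      exact hle A hA (h.le_of_mem hA h2 hne h1)
    exact commutatorElement_eq_one_iff_mul_comm.1 h4
  obtain ⟨P0⟩ : Nonempty (Sylow r W) := inferInstance
  have hsupW : (P0 : Subgroup W) ⊔ N.subgroupOf W = ⊤ := by
    rw [← Subgroup.index_eq_one]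
    have h1 := Subgroup.index_dvd_of_le (show (P0 : Subgroup W) ≤ (P0 : Subgroup W) ⊔ N.subgroupOf W
      from le_sup_left)
    have h2 := Subgroup.index_dvd_of_le (show N.subgroupOf W ≤ (P0 : Subgroup W) ⊔ N.subgroupOf W
      from le_sup_right)
    have h3 : ∃ k, (N.subgroupOf W).index = r ^ k := by
      obtain ⟨k, hk⟩ := hPr.exists_card_eq
      refine ⟨k, ?_⟩
      rw [← Subgroup.relIndex, ← hk]
      have h5 := Subgroup.relIndex_comap (⊥ : Subgroup (G ⧸ N)) (QuotientGroup.mk' N) W
      rw [MonoidHom.comap_bot, QuotientGroup.ker_mk',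
        Subgroup.map_comap_eq_self_of_surjective (QuotientGroup.mk'_surjective N),
        Subgroup.relIndex_bot_left] at h5
      exact h5
    obtain ⟨k, hk⟩ := h3
    rw [hk] at h2
    exact Nat.Coprime.eq_one_of_dvd ((Nat.Coprime.pow_left _
      ((Nat.Prime.coprime_iff_not_dvd h.hr).2 P0.not_dvd_index)).coprime_dvd_left h2) h1
  haveI hP0n : (P0 : Subgroup W).Normal := by
    rw [← Subgroup.normalizer_eq_top_iff, eq_top_iff, ← hsupW]
    refine sup_le le_normalizer fun x hx => ?_
    rw [Subgroup.mem_normalizer_iff]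
    intro y
    have : x * y * x⁻¹ = y := Subtype.ext (by
      show (x : G) * y * (x : G)⁻¹ = y
      have h6 : (y : G) * (x : G) = (x : G) * y := Subgroup.mem_center_iff.1 (hcen _ hx) y
      rw [← h6, mul_inv_cancel_right])
    rw [this]
  haveI := P0.characteristic_of_normal inferInstance
  set P := (P0 : Subgroup W).map W.subtype with hP
  haveI hPn' : P.Normal := ConjAct.normal_of_characteristic_of_normal
  have hWP : W ≤ P ⊔ N := by
    have := congrArg (Subgroup.map W.subtype) hsupW
    rw [Subgroup.map_sup, ← MonoidHom.range_eq_map, range_subtype, subgroupOf_map_subtype,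
      inf_eq_left.2 hNW] at this
    exact this.ge
  refine ⟨P, hPn', P0.2.map _, fun A hA => ?_⟩
  have htop : P ⊔ A ⊔ N = ⊤ := by
    rw [eq_top_iff, ← hWA A hA]
    exact sup_le (hWP.trans (sup_le (le_sup_left.trans le_sup_left) le_sup_right))
      (le_sup_right.trans le_sup_left)
  rw [eq_top_iff, ← h.gen]
  refine sSup_le fun B hB => ?_
  obtain ⟨g, rfl⟩ := h.conj_all hA hB
  have hg : g ∈ P ⊔ A ⊔ N := htop ▸ mem_top g
  obtain ⟨y, hy, x, hx, rfl⟩ := Subgroup.mem_sup_of_normal_right.1 hg
  rw [← cj_cj, hnorm A hA x hx]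
  exact cj_le_of_mem le_sup_right hy

theorem exists_rad {G : Type u} [Group G] [Finite G] {p r : ℕ} {D : Set (Subgroup G)}
    (h : Base p r D) (hsol : Group.IsSolvable G) :
    ∃ P : Subgroup G, P.Normal ∧ IsPGroup r P ∧ ∀ A ∈ D, P ⊔ A = ⊤ :=
  exists_rad_aux _ G p r D rfl h hsol

variable {G : Type u} [Group G] [Finite G] {p r : ℕ} {D : Set (Subgroup G)}

/-- Structure of a solvable subgroup generated by members. -/
structure RadData (p r : ℕ) (D : Set (Subgroup G)) (K : Subgroup G) : Prop where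
  pg : IsPGroup r (Rd r K)
  norm : K ≤ normalizer ((Rd r K : Subgroup G) : Set G)
  sup : ∀ A ∈ pts D K, Rd r K ⊔ A = K
  mem : ∀ x ∈ K, IsR r x → x ∈ Rd r K

theorem Base.radData (h : Base p r D) {K : Subgroup G} (hK : IsSub D K) (hsol : Group.IsSolvable K) :
    RadData p r D K := by
  haveI := Fact.mk h.hr
  obtain ⟨P, hPn, hPr, hPs⟩ := exists_rad (h.sub hK) hsol
  haveI := hPn
  have hmemP : ∀ x : K, IsR r (x : G) → x ∈ P := by
    intro x hx
    rcases (pts D K).eq_empty_or_nonempty with he | ⟨A, hA⟩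
    · have hb : K = ⊥ := by rw [← hK, he]; simp
      have hx1 : x = 1 := Subtype.ext ((Subgroup.mem_bot).1 (hb ▸ x.2))
      rw [hx1]; exact one_mem _
    · obtain ⟨k, hk⟩ := hx
      have hA' : (A.subgroupOf K) ∈ {B : Subgroup K | B.map K.subtype ∈ D} := by
        show (A.subgroupOf K).map K.subtype ∈ D
        rw [subgroupOf_map_subtype, inf_eq_left.2 hA.2]; exact hA.1
      have htop := hPs _ hA'
      rw [← QuotientGroup.eq_one_iff, ← orderOf_eq_one_iff]
      have h1 : orderOf (QuotientGroup.mk' P x) ∣ r ^ k :=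
        orderOf_dvd_of_pow_eq_one (by
          rw [← map_pow, show x ^ r ^ k = 1 from Subtype.ext (by simpa using hk), map_one])
      have h2 : orderOf (QuotientGroup.mk' P x) ∣ p := by
        have h3 : Subgroup.map (QuotientGroup.mk' P) (A.subgroupOf K) = ⊤ := by
          have := congrArg (Subgroup.map (QuotientGroup.mk' P)) htop
          rwa [Subgroup.map_sup, QuotientGroup.map_mk'_self, bot_sup_eq,
            map_top_of_surjective _ (QuotientGroup.mk'_surjective P)] at this
        refine (_root_.orderOf_dvd_natCard _).trans ?_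
        rw [← Subgroup.card_top (G := K ⧸ P), ← h3]
        refine (card_map_dvd _ _).trans (dvd_of_eq ?_)
        rw [Nat.card_congr (subgroupOfEquivOfLe hA.2).toEquiv, h.card A hA.1]
      exact Nat.eq_one_of_dvd_coprimes (Nat.Coprime.pow_left _
        ((Nat.coprime_primes h.hr h.hp).2 h.hpr.symm)) h1 h2
  have hRd : Rd r K = P.map K.subtype := by
    refine le_antisymm ((closure_le _).2 fun x hx => ⟨⟨x, hx.1⟩, hmemP ⟨x, hx.1⟩ hx.2, rfl⟩) ?_
    rintro _ ⟨x, hx, rfl⟩
    exact subset_closure ⟨x.2, (isR_of_pgroup hPr hx).map K.subtype⟩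
  refine ⟨hRd ▸ hPr.map _, ?_, ?_, fun x hx hr => subset_closure ⟨hx, hr⟩⟩
  · rw [hRd]
    intro k hk
    have h1 : (⟨k, hk⟩ : K) ∈ normalizer (P : Set K) := by
      rw [Subgroup.normalizer_eq_top P]; exact mem_top _
    exact le_normalizer_map K.subtype (mem_map_of_mem K.subtype h1)
  · intro A hA
    have hA' : (A.subgroupOf K) ∈ {B : Subgroup K | B.map K.subtype ∈ D} := by
      show (A.subgroupOf K).map K.subtype ∈ D
      rw [subgroupOf_map_subtype, inf_eq_left.2 hA.2]; exact hA.1
    have := congrArg (Subgroup.map K.subtype) (hPs _ hA')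
    rwa [Subgroup.map_sup, subgroupOf_map_subtype, inf_eq_left.2 hA.2, ← hRd,
      ← MonoidHom.range_eq_map, range_subtype] at this

end Cfsg.Agent.H73.Fis
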