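import Cfsg.Agent.H73.Fis.Solv

/-!
# Maximal subgroups generated by members of a line system meet in at most one member
-/

set_option autoImplicit false
set_option linter.style.haveILetI false

namespace Cfsg.Agent.H73.Fis

open Subgroup
open scoped Pointwise commutatorElement

universe u

variable {G : Type u} [Group G]

/-- The central part of the radical. -/
def Zr (r : ℕ) (K : Subgroup G) : Subgroup G := Rd r K ⊓ centralizer (K : Set G)

/-- Members centralised by `z`. -/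
def Hz (D : Set (Subgroup G)) (z : G) : Subgroup G :=
  sSup {A | A ∈ D ∧ A ≤ centralizer ({z} : Set G)}

/-- Members normalising `T`. -/
def Jset (D : Set (Subgroup G)) (T : Subgroup G) : Subgroup G :=
  sSup {A | A ∈ D ∧ A ≤ normalizer (T : Set G)}

/-- Either centralisers of members in solvable subsystems are central and class is at most two,
or no `r`-element of a line centralises a member. -/
def Cls (p r : ℕ) (D : Set (Subgroup G)) : Prop :=
  (∀ K : Subgroup G, IsSub D K → Group.IsSolvable K → ∀ A ∈ pts D K,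
    (∀ x ∈ Rd r K, x ∈ centralizer (A : Set G) → x ∈ centralizer (K : Set G)) ∧
    (∀ x ∈ Rd r K, ∀ y ∈ Rd r K, ⁅x, y⁆ ∈ centralizer (A : Set G))) ∨
  (∀ A ∈ D, ∀ B ∈ D, A ≠ B → ∀ x ∈ A ⊔ B, IsR r x → x ∈ centralizer (A : Set G) → x = 1) ∧ p ≠ 0

/-- The class-two alternative. -/
def Cls2 (r : ℕ) (D : Set (Subgroup G)) : Prop :=
  ∀ K : Subgroup G, IsSub D K → Group.IsSolvable K → ∀ A ∈ pts D K,
    (∀ x ∈ Rd r K, x ∈ centralizer (A : Set G) → x ∈ centralizer (K : Set G)) ∧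
    (∀ x ∈ Rd r K, ∀ y ∈ Rd r K, ⁅x, y⁆ ∈ centralizer (A : Set G))

/-- A minimal counterexample to: the group has odd order. -/
structure MC [Finite G] (p r : ℕ) (D : Set (Subgroup G)) : Prop where
  base : Base p r D
  cls : Cls p r D
  sub : ∀ K : Subgroup G, IsSub D K → K ≠ ⊤ → Group.IsSolvable K
  nosolv : ∀ N : Subgroup G, N.Normal → Group.IsSolvable N → N = ⊥
  even : 2 ∣ Nat.card G

theorem cj_Jset [Finite G] {p r : ℕ} {D : Set (Subgroup G)} (h : Base p r D) {T : Subgroup G}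
    {g : G} (hg : g ∈ normalizer (T : Set G)) : cj g (Jset D T) = Jset D T := by
  have key : ∀ k : G, k ∈ normalizer (T : Set G) → cj k (Jset D T) ≤ Jset D T := by
    intro k hk
    show Subgroup.map _ (sSup _) ≤ _
    rw [(Subgroup.gc_map_comap _).l_sSup]
    refine iSup₂_le fun A hA => le_sSup ⟨h.inv A hA.1 k, ?_⟩
    exact cj_le_of_mem hA.2 hk
  refine le_antisymm (key g hg) ?_
  have := cj_mono (g := g) (key g⁻¹ (inv_mem hg))
  rwa [cj_cj, mul_inv_cancel, cj_one] at this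

theorem cj_Hz_le [Finite G] {p r : ℕ} {D : Set (Subgroup G)} (h : Base p r D) (g z : G) :
    cj g (Hz D z) ≤ Hz D (g * z * g⁻¹) := by
  show Subgroup.map _ (sSup _) ≤ _
  rw [(Subgroup.gc_map_comap _).l_sSup]
  refine iSup₂_le fun A hA => le_sSup ⟨h.inv A hA.1 g, ?_⟩
  intro x hx
  have h1 := mem_centralizer_singleton_iff.1 (hA.2 (mem_cj.1 hx))
  rw [mem_centralizer_singleton_iff]
  calc x * (g * z * g⁻¹) = g * ((g⁻¹ * x * g) * z) * g⁻¹ := by group
    _ = g * (z * (g⁻¹ * x * g)) * g⁻¹ := by rw [h1]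
    _ = g * z * g⁻¹ * x := by group

theorem cj_Hz [Finite G] {p r : ℕ} {D : Set (Subgroup G)} (h : Base p r D) (g z : G) :
    cj g (Hz D z) = Hz D (g * z * g⁻¹) := by
  refine le_antisymm (cj_Hz_le h g z) ?_
  have := cj_mono (g := g) (cj_Hz_le h g⁻¹ (g * z * g⁻¹))
  rwa [cj_cj, mul_inv_cancel, cj_one, show g⁻¹ * (g * z * g⁻¹) * g⁻¹⁻¹ = z by group] at this

theorem le_normalizer_of_cj_le [Finite G] {P W : Subgroup G} (h : ∀ x ∈ P, cj x W ≤ W) :
    P ≤ normalizer (W : Set G) := fun x hx =>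
  mem_normalizer_of_cj (Subgroup.eq_of_le_of_card_ge (h x hx) (card_cj x W).ge)

theorem cj_zr (r : ℕ) (g : G) (K : Subgroup G) : cj g (Zr r K) = Zr r (cj g K) := by
  ext x
  simp only [Zr, mem_cj, Subgroup.mem_inf, ← cj_rd]
  refine and_congr_right fun _ => ?_
  rw [mem_centralizer_iff, mem_centralizer_iff]
  constructor
  · intro h y hy
    have h1 := h _ (mem_cj.1 hy)
    calc y * x = g * ((g⁻¹ * y * g) * (g⁻¹ * x * g)) * g⁻¹ := by group
      _ = g * ((g⁻¹ * x * g) * (g⁻¹ * y * g)) * g⁻¹ := by rw [h1]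
      _ = x * y := by group
  · intro h y hy
    have h1 := h _ (conj_mem_cj (g := g) hy)
    calc y * (g⁻¹ * x * g) = g⁻¹ * ((g * y * g⁻¹) * x) * g := by group
      _ = g⁻¹ * (x * (g * y * g⁻¹)) * g := by rw [h1]
      _ = g⁻¹ * x * g * y := by group

/-- An `r`-group of operators fixes a nontrivial coset. -/
theorem exists_fixed_coset [Finite G] {r : ℕ} [Fact r.Prime] {S P W : Subgroup G}
    (hQ : IsPGroup r ↥(P ⊔ S : Subgroup G)) (hWP : W ≤ P) (hne : ¬ P ≤ W)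
    (hS : S ≤ normalizer (P : Set G)) :
    ∃ v ∈ P, v ∉ W ∧ ∀ q ∈ S, ⁅v, q⁆ ∈ W := by
  haveI := hQ.isNilpotent
  obtain ⟨n, hn⟩ := (Subgroup.isNilpotent_iff_lowerCentralSeries (P ⊔ S)).1 inferInstance
  have hex : ∃ i, P ⊓ (P ⊔ S).lowerCentralSeries i ≤ W := ⟨n, by rw [hn, inf_bot_eq]; exact bot_le⟩
  classical
  have h0 : Nat.find hex ≠ 0 := by
    intro h0
    have := Nat.find_spec hex
    rw [h0, Subgroup.lowerCentralSeries_zero, inf_eq_left.2 le_sup_left] at this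
    exact hne this
  obtain ⟨i, hi⟩ := Nat.exists_eq_succ_of_ne_zero h0
  have hnot : ¬ P ⊓ (P ⊔ S).lowerCentralSeries i ≤ W := Nat.find_min hex (by omega)
  obtain ⟨v, hv, hvW⟩ := SetLike.not_le_iff_exists.1 hnot
  refine ⟨v, hv.1, hvW, fun q hq => ?_⟩
  have h1 := Nat.find_spec hex
  rw [hi] at h1
  refine h1 ⟨?_, ?_⟩
  · rw [commutatorElement_def]
    have h2 : q * v⁻¹ * q⁻¹ ∈ P :=
      (Subgroup.mem_normalizer_iff.1 (hS hq) v⁻¹).1 (P.inv_mem hv.1)
    have := P.mul_mem hv.1 h2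
    simpa [mul_assoc] using this
  · rw [Subgroup.lowerCentralSeries_succ]
    exact commutator_mem_commutator hv.2 (mem_sup_right hq)

namespace MC

variable [Finite G] {p r : ℕ} {D : Set (Subgroup G)}

theorem center_eq_bot (m : MC p r D) : center G = ⊥ := by
  haveI : Group.IsSolvable (center G) :=
    Group.isSolvable_of_comm fun a b => Subtype.ext (Subgroup.mem_center_iff.1 b.2 a)
  exact m.nosolv _ inferInstance this

theorem hz_isSub (_m : MC p r D) (z : G) : IsSub D (Hz D z) := isSub_sSup D fun _ h => h.1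

theorem le_centralizer_of_le_hz {z : G} {K : Subgroup G} (h : K ≤ Hz D z) :
    K ≤ centralizer ({z} : Set G) := h.trans (sSup_le fun _ hA => hA.2)

theorem eq_one_of_hz (m : MC p r D) {z : G} (h : Hz D z = ⊤) : z = 1 := by
  have h1 : z ∈ center G := Subgroup.mem_center_iff.2 fun g =>
    mem_centralizer_singleton_iff.1 (le_centralizer_of_le_hz h.ge (mem_top g))
  rw [m.center_eq_bot, Subgroup.mem_bot] at h1
  exact h1

theorem hz_ne_top (m : MC p r D) {z : G} (hz : z ≠ 1) : Hz D z ≠ ⊤ := fun h => hz (m.eq_one_of_hz h)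

theorem jset_ne_top (m : MC p r D) {T : Subgroup G} (hT : Group.IsSolvable T) (hT1 : T ≠ ⊥) :
    Jset D T ≠ ⊤ := by
  intro h
  have hn : normalizer (T : Set G) = ⊤ := top_le_iff.1 (h.ge.trans (sSup_le fun _ hA => hA.2))
  exact hT1 (m.nosolv T (Subgroup.normalizer_eq_top_iff.1 hn) hT)

theorem radData (m : MC p r D) {K : Subgroup G} (hK : IsSub D K) (hne : K ≠ ⊤) :
    RadData p r D K := m.base.radData hK (m.sub K hK hne)

theorem rd_mono (m : MC p r D) {I K : Subgroup G} (hK : IsSub D K) (hne : K ≠ ⊤) (hI : IsSub D I)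
    (hle : I ≤ K) : Rd r I ≤ Rd r K := fun x hx =>
  (m.radData hK hne).mem x (hle (rd_le r I hx))
    (isR_of_pgroup (m.radData hI (fun h => hne (top_le_iff.1 (h.ge.trans hle)))).pg hx)

theorem commute_of_centralizer {A : Subgroup G} {a x : G} (hx : x ∈ centralizer (A : Set G))
    (ha : a ∈ A) : a * x = x * a := mem_centralizer_iff.1 hx a ha

theorem mem_centralizer_of_commute (m : MC p r D) {A : Subgroup G} (hA : A ∈ D) {a : G}
    (ha : a ∈ A) (ha1 : a ≠ 1) {x : G} (hx : a * x = x * a) : x ∈ centralizer (A : Set G) := by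
  rw [m.base.eq_zpowers hA ha ha1, Signalizer.centralizer_zpowers]
  exact mem_centralizer_singleton_iff.2 hx.symm

theorem zr_kmax (m : MC p r D) (c2 : Cls2 r D) {K L : Subgroup G} (hK : IsSub D K)
    (hKn : (pts D K).Nonempty) (hL : IsSub D L) (hLne : L ≠ ⊤) (hKL : K ≤ L) {z : G}
    (hz : z ∈ Zr r K) : z ∈ Zr r L ∧ L ≤ Hz D z := by
  obtain ⟨A, hA⟩ := hKn
  have h1 : z ∈ Rd r L := m.rd_mono hL hLne hK hKL hz.1
  have h2 := (c2 L hL (m.sub L hL hLne) A ⟨hA.1, hA.2.trans hKL⟩).1 z h1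
    (centralizer_le (show (A : Set G) ⊆ K from hA.2) hz.2)
  refine ⟨⟨h1, h2⟩, hL.le_of_pts fun C hC => le_sSup ⟨hC.1, fun c hc => ?_⟩⟩
  exact mem_centralizer_singleton_iff.2 (mem_centralizer_iff.1 h2 c (hC.2 hc))

theorem le_hz_self (m : MC p r D) {K : Subgroup G} (hK : IsSub D K) {z : G} (hz : z ∈ Zr r K) :
    K ≤ Hz D z :=
  hK.le_of_pts fun _C hC => le_sSup ⟨hC.1, fun c hc =>
    mem_centralizer_singleton_iff.2 (mem_centralizer_iff.1 hz.2 c (hC.2 hc))⟩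

/-- `H_w = H_z` for a further central element `w` of a subsystem inside `H_z`. -/
theorem hz_eq (m : MC p r D) (c2 : Cls2 r D) {K : Subgroup G} (hK : IsSub D K)
    (hKn : (pts D K).Nonempty) {z : G} (hz1 : z ≠ 1) (hz : z ∈ Zr r K) {w : G} (hw1 : w ≠ 1)
    (hw : w ∈ Zr r (Hz D z)) : Hz D w = Hz D z := by
  have h1 := m.le_hz_self (m.hz_isSub z) hw
  refine le_antisymm ?_ h1
  exact (m.zr_kmax c2 hK hKn (m.hz_isSub w) (m.hz_ne_top hw1)
    ((m.le_hz_self hK hz).trans h1) hz).2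

/-- The point produced on one side. -/
theorem side (m : MC p r D) (c2 : Cls2 r D) {K I SL : Subgroup G} (hK : IsSub D K) (hKne : K ≠ ⊤)
    (hI : IsSub D I) (hIK : I ≤ K) (hKI : ¬ K ≤ I) {E : Subgroup G} (hE : E ∈ pts D I)
    (hab : ∀ x ∈ Rd r I, ∀ y ∈ Rd r I, Commute x y) (hZI : ∀ x ∈ Zr r I, x = 1)
    (hSLr : ∀ Q : Subgroup G, IsPGroup r Q → SL ≤ normalizer (Q : Set G) →
      IsPGroup r ↥(Q ⊔ SL : Subgroup G))
    (hSLK : ∀ q ∈ SL, cj q K = K) (hSLI : ∀ q ∈ SL, ∀ x ∈ I, Commute q x)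
    (SK : Subgroup G) (hSKle : SK ≤ Zr r K)
    (hkey : ∀ g ∈ Zr r K, (∀ q ∈ SL, Commute q g) → g ∈ SK) :
    ∃ C ∈ D, C ≤ K ∧ ¬ C ≤ I ∧ C ≤ normalizer ((Rd r I ⊔ SK ⊔ SL : Subgroup G) : Set G) := by
  haveI := Fact.mk m.base.hr
  have hKd := m.radData hK hKne
  have hIne : I ≠ ⊤ := fun h => hKne (top_le_iff.1 (h.ge.trans hIK))
  have hId := m.radData hI hIne
  obtain ⟨a, ha, ha1⟩ := m.base.exists_ne_one hE.1
  have hEK : E ≤ K := hE.2.trans hIK
  have haK : a ∈ K := hEK ha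
  have hcls := c2 K hK (m.sub K hK hKne) E ⟨hE.1, hEK⟩
  have hzr : ∀ x ∈ Rd r K, Commute a x → x ∈ Zr r K := fun x hx hc =>
    ⟨hx, hcls.1 x hx (m.mem_centralizer_of_commute hE.1 ha ha1 hc.eq)⟩
  have hcomm : ∀ x ∈ Rd r K, ∀ y ∈ Rd r K, ⁅x, y⁆ ∈ Zr r K := fun x hx y hy => by
    have h1 : ⁅x, y⁆ ∈ Rd r K := by
      rw [commutatorElement_def]
      exact mul_mem (mul_mem (mul_mem hx hy) (inv_mem hx)) (inv_mem hy)
    exact ⟨h1, hcls.1 _ h1 (hcls.2 x hx y hy)⟩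
  have hcen : ∀ ζ ∈ Zr r K, ∀ x ∈ K, Commute ζ x := fun ζ hζ x hx =>
    (mem_centralizer_iff.1 hζ.2 x hx).symm
  have hRI : Rd r I ≤ Rd r K := m.rd_mono hK hKne hI hIK
  set P := Rd r K
  have hPK : P ≤ K := rd_le r K
  have hIK' : ∀ x ∈ Rd r I, x ∈ K := fun x hx => hPK (hRI hx)
  let W : Subgroup G :=
    { carrier := {x | ∃ i ∈ Rd r I, ∃ ζ ∈ Zr r K, x = i * ζ}
      one_mem' := ⟨1, one_mem _, 1, one_mem _, (mul_one 1).symm⟩
      mul_mem' := by
        rintro _ _ ⟨i, hi, ζ, hζ, rfl⟩ ⟨j, hj, η, hη, rfl⟩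
        refine ⟨i * j, mul_mem hi hj, ζ * η, mul_mem hζ hη, ?_⟩
        rw [mul_assoc i, ← mul_assoc ζ, (hcen ζ hζ j (hIK' j hj)).eq]; group
      inv_mem' := by
        rintro _ ⟨i, hi, ζ, hζ, rfl⟩
        refine ⟨i⁻¹, inv_mem hi, ζ⁻¹, inv_mem hζ, ?_⟩
        rw [mul_inv_rev, ((hcen ζ hζ i (hIK' i hi)).inv_inv).eq] }
  have hWP : W ≤ P := by rintro _ ⟨i, hi, ζ, hζ, rfl⟩; exact mul_mem (hRI hi) hζ.1
  have hIW : ∀ i ∈ Rd r I, i ∈ W := fun i hi => ⟨i, hi, 1, one_mem _, (mul_one i).symm⟩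
  have hZW : ∀ ζ ∈ Zr r K, ζ ∈ W := fun ζ hζ => ⟨1, one_mem _, ζ, hζ, (one_mul ζ).symm⟩
  have hpt : ∀ v ∈ P, cj v E ≤ I → v ∈ W := by
    intro v hv hle
    have hcard : Nat.card (cj v E) = p := by rw [card_cj]; exact m.base.card E hE.1
    obtain ⟨i, hi, hie⟩ := m.base.exists_sylow_conj hE.1 hId.pg (hE.2.trans hId.norm) hcard
      (by rw [hId.sup E hE]; exact hle)
    have h1 : cj (i⁻¹ * v) E = E := by rw [← cj_cj, hie, cj_cj, inv_mul_cancel, cj_one]
    have hw : i⁻¹ * v ∈ P := mul_mem (inv_mem (hRI hi)) hv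
    set w := i⁻¹ * v
    have h2 : ⁅w, a⁆ ∈ E := by
      rw [commutatorElement_def]
      exact mul_mem (h1 ▸ conj_mem_cj ha) (inv_mem ha)
    have h3 : ⁅w, a⁆ ∈ P := by
      rw [commutatorElement_def]
      have h4 := (Subgroup.mem_normalizer_iff.1 (hKd.norm haK) w⁻¹).1 (inv_mem hw)
      have := mul_mem hw h4
      simpa [mul_assoc] using this
    have h5 : ⁅w, a⁆ = 1 := (Subgroup.mem_bot).1
      ((Subgroup.inf_eq_bot_of_coprime (m.base.coprime_card hE.1 hKd.pg)).le ⟨h2, h3⟩)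
    have h6 := hzr w hw (Commute.symm (commutatorElement_eq_one_iff_mul_comm.1 h5))
    exact ⟨i, hi, w, h6, by simp [w]⟩
  have hWne : ¬ P ≤ W := by
    intro hle
    refine hKI (hK.le_of_pts fun C hC => ?_)
    obtain ⟨x, hx, rfl⟩ := m.base.exists_sylow_conj hE.1 hKd.pg (hEK.trans hKd.norm)
      (m.base.card C hC.1) (by rw [hKd.sup E ⟨hE.1, hEK⟩]; exact hC.2)
    obtain ⟨i, hi, ζ, hζ, rfl⟩ := hle hx
    rw [← cj_cj]
    refine cj_le_of_mem ?_ (rd_le r I hi)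
    rw [cj_eq_of_normalizer]
    · exact hE.2
    · exact Subgroup.centralizer_le_normalizer _ (centralizer_le (show (E : Set G) ⊆ K from hEK) hζ.2)
  have hSLP : SL ≤ normalizer (P : Set G) := fun q hq =>
    mem_normalizer_of_cj (by rw [cj_rd, hSLK q hq])
  obtain ⟨v0, hv0, hv0W, hfix⟩ := exists_fixed_coset (hSLr P hKd.pg hSLP) hWP hWne hSLP
  have haP : ∀ x ∈ P, ⁅x, a⁆ ∈ P := fun x hx => by
    rw [commutatorElement_def]
    have h4 := (Subgroup.mem_normalizer_iff.1 (hKd.norm haK) x⁻¹).1 (inv_mem hx)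
    have := mul_mem hx h4
    simpa [mul_assoc] using this
  set v := ⁅v0, a⁆ with hv
  have hvP : v ∈ P := haP v0 hv0
  have hcm : ∀ x y : G, ⁅x * y, a⁆ = x * ⁅y, a⁆ * x⁻¹ * ⁅x, a⁆ := fun x y => by
    simp only [commutatorElement_def]; group
  have haI : ∀ x ∈ Rd r I, ⁅x, a⁆ ∈ Rd r I := fun x hx => by
    rw [commutatorElement_def]
    have h4 := (Subgroup.mem_normalizer_iff.1 (hId.norm (hE.2 ha)) x⁻¹).1 (inv_mem hx)
    have := mul_mem hx h4
    simpa [mul_assoc] using this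
  -- commutation with `a` is bijective on `Rd r I`
  have hinj : ∀ x ∈ Rd r I, ⁅x, a⁆ = 1 → x = 1 := fun x hx he => by
    refine hZI x ⟨hx, (c2 I hI (m.sub I hI hIne) E hE).1 x hx ?_⟩
    exact m.mem_centralizer_of_commute hE.1 ha ha1
      (commutatorElement_eq_one_iff_mul_comm.1 he).symm
  have hsurj : ∀ i ∈ Rd r I, ∃ i0 ∈ Rd r I, ⁅i0, a⁆ = i := by
    let φ : Rd r I → Rd r I := fun x => ⟨⁅(x : G), a⁆, haI x x.2⟩
    have hφ : Function.Injective φ := by
      intro x y hxy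
      have h1 : ⁅(x : G), a⁆ = ⁅(y : G), a⁆ := congrArg Subtype.val hxy
      have h2 : ⁅(y : G)⁻¹ * x, a⁆ = 1 := by
        rw [hcm, h1]; simp only [commutatorElement_def]; group
      exact Subtype.ext (inv_mul_eq_one.1 (hinj _ (mul_mem (inv_mem y.2) x.2) h2)).symm
    intro i hi
    obtain ⟨x, hx⟩ := (Finite.injective_iff_surjective.1 hφ) ⟨i, hi⟩
    exact ⟨x, x.2, congrArg Subtype.val hx⟩
  have hvW : v ∉ W := by
    rintro ⟨i, hi, ζ, hζ, he⟩
    obtain ⟨i0, hi0, hi0e⟩ := hsurj i hi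
    have h1 : ⁅i0⁻¹, a⁆ = i⁻¹ := by
      have h2 : ⁅i0⁻¹, a⁆ = i0⁻¹ * ⁅i0, a⁆⁻¹ * i0 := by simp only [commutatorElement_def]; group
      rw [h2, hi0e]
      rw [((hab i0 hi0 i hi).inv_inv).eq, inv_mul_cancel_right]
    have h3 : ⁅i0⁻¹ * v0, a⁆ = ζ := by
      rw [hcm, ← hv, he, h1, inv_inv]
      have e1 : Commute i0⁻¹ (i * ζ) := Commute.mul_right ((hab i0 hi0 i hi).inv_left)
        ((hcen ζ hζ i0 (hIK' i0 hi0)).symm.inv_left)
      rw [e1.eq, inv_mul_cancel_right, (hcen ζ hζ i (hIK' i hi)).symm.eq, mul_inv_cancel_right]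
    have hw : i0⁻¹ * v0 ∈ P := mul_mem (inv_mem (hRI hi0)) hv0
    set w := i0⁻¹ * v0 with hwdef
    have hpow : a ^ p = 1 := by
      rw [← m.base.card E hE.1]
      exact orderOf_dvd_iff_pow_eq_one.1 (Subgroup.orderOf_dvd_natCard E ha)
    have hwz : w ∈ Zr r K := by
      refine hzr w hw ?_
      have e2 : w * a * w⁻¹ = ζ * a := by rw [← h3, commutatorElement_def]; group
      have e3 : (ζ * a) ^ p = 1 := by rw [← e2, conj_pow, hpow]; simp
      rw [(hcen ζ hζ a haK).mul_pow, hpow, mul_one] at e3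
      obtain ⟨k, hk⟩ := isR_of_pgroup hKd.pg hζ.1
      have hζ1 : ζ = 1 := orderOf_eq_one_iff.1 (Nat.eq_one_of_dvd_coprimes
        (Nat.Coprime.pow_left k ((Nat.coprime_primes m.base.hr m.base.hp).2 m.base.hpr.symm))
        (orderOf_dvd_of_pow_eq_one hk) (orderOf_dvd_of_pow_eq_one e3))
      rw [hζ1, one_mul] at e2
      show a * w = w * a
      conv_lhs => rw [← e2]
      group
    exact hv0W ⟨i0, hi0, w, hwz, by simp [w]⟩
  -- commutators with `Rd r I`
  have hvfix : ∀ q ∈ SL, ∃ i' ∈ Rd r I, ∃ ζ' ∈ Zr r K,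
      q * v * q⁻¹ = i' * v * i'⁻¹ * ⁅i', a⁆ ∧ ⁅v0, q⁆⁻¹ = i' * ζ' := by
    intro q hq
    obtain ⟨i', hi', ζ', hζ', he⟩ := W.inv_mem (hfix q hq)
    refine ⟨i', hi', ζ', hζ', ?_, he⟩
    have hqa : Commute q a := hSLI q hq a (hE.2 ha)
    have e1 : q * v0 * q⁻¹ = i' * ζ' * v0 := by rw [← he, commutatorElement_def]; group
    have e2 : q * v * q⁻¹ = ⁅q * v0 * q⁻¹, a⁆ := by
      have e3 : q * a * q⁻¹ = a := by rw [hqa.eq, mul_inv_cancel_right]
      have e4 : q * a⁻¹ * q⁻¹ = a⁻¹ := by rw [hqa.inv_right.eq, mul_inv_cancel_right]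
      calc q * v * q⁻¹ = (q * v0 * q⁻¹) * (q * a * q⁻¹) * (q * v0 * q⁻¹)⁻¹ * (q * a⁻¹ * q⁻¹) := by
            rw [hv, commutatorElement_def]; group
        _ = _ := by rw [e3, e4, commutatorElement_def]
    rw [e2, e1, mul_assoc, hcm]
    have e5 : ⁅ζ' * v0, a⁆ = v := by
      rw [hcm]
      have e6 : ⁅ζ', a⁆ = 1 := commutatorElement_eq_one_iff_mul_comm.2 (hcen ζ' hζ' a haK).eq
      rw [e6, mul_one, ← hv, (hcen ζ' hζ' v (hPK hvP)).eq, mul_inv_cancel_right]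
    rw [e5]
  have hstar : ∀ x ∈ Rd r I, ⁅v, x⁆ ∈ SK := by
    intro x hx
    have hg := hcomm v hvP x (hRI hx)
    refine hkey _ hg fun q hq => ?_
    obtain ⟨i', hi', ζ', hζ', he, -⟩ := hvfix q hq
    have hqx : q * x * q⁻¹ = x := by
      rw [(hSLI q hq x (rd_le r I hx)).eq, mul_inv_cancel_right]
    have hqx' : q * x⁻¹ * q⁻¹ = x⁻¹ := by
      rw [(hSLI q hq x (rd_le r I hx)).inv_right.eq, mul_inv_cancel_right]
    have hj := haI i' hi'
    set j := ⁅i', a⁆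
    have hjx : j * x * j⁻¹ = x := by rw [(hab j hj x hx).eq, mul_inv_cancel_right]
    have hix : i' * x * i'⁻¹ = x := by rw [(hab i' hi' x hx).eq, mul_inv_cancel_right]
    have hix2 : i'⁻¹ * x * i' = x := by
      rw [((hab i' hi' x hx).inv_left).eq, inv_mul_cancel_right]
    show q * ⁅v, x⁆ = ⁅v, x⁆ * q
    have e1 : q * ⁅v, x⁆ * q⁻¹ = ⁅v, x⁆ := by
      calc q * ⁅v, x⁆ * q⁻¹
          = (q * v * q⁻¹) * (q * x * q⁻¹) * (q * v * q⁻¹)⁻¹ * (q * x⁻¹ * q⁻¹) := by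
            rw [commutatorElement_def]; group
        _ = i' * v * i'⁻¹ * (j * x * j⁻¹) * i' * v⁻¹ * i'⁻¹ * x⁻¹ := by
            rw [hqx, hqx', he]; group
        _ = i' * v * (i'⁻¹ * x * i') * v⁻¹ * i'⁻¹ * x⁻¹ := by rw [hjx]; group
        _ = (i' * ⁅v, x⁆ * i'⁻¹) * ((i' * x * i'⁻¹) * x⁻¹) := by
            rw [hix2, commutatorElement_def]; group
        _ = ⁅v, x⁆ := by
            rw [hix, mul_inv_cancel, mul_one, (hcen _ hg i' (hIK' i' hi')).symm.eq,
              mul_inv_cancel_right]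
    calc q * ⁅v, x⁆ = q * ⁅v, x⁆ * q⁻¹ * q := by group
      _ = ⁅v, x⁆ * q := by rw [e1]
  set T := Rd r I ⊔ SK ⊔ SL with hT
  have hTI : ∀ x ∈ Rd r I, x ∈ T := fun x hx => mem_sup_left (mem_sup_left hx)
  have hTK : ∀ x ∈ SK, x ∈ T := fun x hx => mem_sup_left (mem_sup_right hx)
  have hTL : ∀ x ∈ SL, x ∈ T := fun x hx => mem_sup_right hx
  have gens : ∀ k : G, (∀ x ∈ Rd r I, k * x * k⁻¹ ∈ T) → (∀ x ∈ SK, k * x * k⁻¹ ∈ T) →
      (∀ x ∈ SL, k * x * k⁻¹ ∈ T) → k ∈ normalizer (T : Set G) := by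
    intro k h1 h2 h3
    refine mem_normalizer_of_cj (Subgroup.eq_of_le_of_card_ge ?_ (card_cj k T).ge)
    rw [hT, cj, Subgroup.map_sup, Subgroup.map_sup]
    refine sup_le (sup_le ?_ ?_) ?_ <;> rintro _ ⟨x, hx, rfl⟩
    · exact h1 x hx
    · exact h2 x hx
    · exact h3 x hx
  have hvT : v ∈ normalizer (T : Set G) := by
    refine gens v (fun x hx => ?_) (fun g hg => ?_) (fun q hq => ?_)
    · rw [show v * x * v⁻¹ = ⁅v, x⁆ * x by rw [commutatorElement_def]; group]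
      exact mul_mem (hTK _ (hstar x hx)) (hTI x hx)
    · rw [((hcen g (hSKle hg) v (hPK hvP)).symm).eq, mul_inv_cancel_right]
      exact hTK g hg
    · obtain ⟨i', hi', ζ', hζ', he, -⟩ := hvfix q hq
      have e1 : v * q * v⁻¹ = (⁅i', v⁆ * (⁅v, ⁅i', a⁆⁆ * ⁅i', a⁆))⁻¹ * q := by
        have e2 : q * v * q⁻¹ * v⁻¹ = ⁅i', v⁆ * (⁅v, ⁅i', a⁆⁆ * ⁅i', a⁆) := by
          rw [he]; simp only [commutatorElement_def]; group
        rw [← e2]; group
      rw [e1]
      refine mul_mem (inv_mem (mul_mem ?_ (mul_mem (hTK _ (hstar _ (haI i' hi')))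
        (hTI _ (haI i' hi'))))) (hTL q hq)
      rw [← commutatorElement_inv]
      exact inv_mem (hTK _ (hstar i' hi'))
  have hET : E ≤ normalizer (T : Set G) := by
    intro e he
    refine gens e (fun x hx => hTI _ ?_) (fun g hg => ?_) (fun q hq => ?_)
    · exact (Subgroup.mem_normalizer_iff.1 (hId.norm (hE.2 he)) x).1 hx
    · rw [((hcen g (hSKle hg) e (hEK he)).symm).eq, mul_inv_cancel_right]
      exact hTK g hg
    · rw [((hSLI q hq e (hE.2 he)).symm).eq, mul_inv_cancel_right]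
      exact hTL q hq
  refine ⟨cj v E, m.base.inv E hE.1 v, cj_le_of_mem hEK (hPK hvP), fun h => hvW (hpt v hvP h), ?_⟩
  exact cj_le_of_mem hET hvT

/-- The intersection lemma: a proper subsystem normalised by `z ∈ Zr K` sharing two members with
`K = H_z` lies in `K`. -/
theorem inter_lemma (m : MC p r D) (c2 : Cls2 r D) {K0 : Subgroup G} (hK0 : IsSub D K0)
    (hK0n : (pts D K0).Nonempty) {z : G} (hz1 : z ≠ 1) (hz0 : z ∈ Zr r K0) {L : Subgroup G}
    (hL : IsSub D L) (hLne : L ≠ ⊤) (hzL : cj z L = L) {E B : Subgroup G} (hEB : E ≠ B)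
    (hE : E ∈ pts D L) (hB : B ∈ pts D L) (hEz : E ≤ Hz D z) (hBz : B ≤ Hz D z) :
    L ≤ Hz D z := by
  classical
  haveI := Fact.mk m.base.hr
  set K := Hz D z with hKdef
  have hK : IsSub D K := m.hz_isSub z
  have hKne : K ≠ ⊤ := m.hz_ne_top hz1
  have hKn : (pts D K).Nonempty := ⟨E, hE.1, hEz⟩
  have hzK : z ∈ Zr r K := (m.zr_kmax c2 hK0 hK0n hK hKne (m.le_hz_self hK0 hz0) hz0).1
  by_contra hcon
  let S : Set (Subgroup G) := {M | IsSub D M ∧ M ≠ ⊤ ∧ cj z M = M ∧ ¬ M ≤ K ∧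
    ∃ E ∈ pts D M, ∃ B ∈ pts D M, E ≠ B ∧ E ≤ K ∧ B ≤ K}
  let f : Subgroup G → ℕ := fun M =>
    (pts D M ∩ pts D K).ncard * (Nat.card G + 1) + Nat.card M
  obtain ⟨M, hMS, hmax⟩ := Set.Finite.exists_maximalFor f S (Set.toFinite _)
    ⟨L, hL, hLne, hzL, hcon, E, hE, B, hB, hEB, hEz, hBz⟩
  obtain ⟨hM, hMne, hzM, hMK, E1, hE1, B1, hB1, hne1, hE1K, hB1K⟩ := hMS
  have hgrow : ∀ J : Subgroup G, IsSub D J → J ≠ ⊤ → cj z J = J → E1 ≤ J → B1 ≤ J →
      f M < f J → J ≤ K := by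
    intro J h1 h2 h3 h4 h5 h6
    by_contra hJK
    exact absurd (hmax (j := J) ⟨h1, h2, h3, hJK, E1, ⟨hE1.1, h4⟩, B1, ⟨hB1.1, h5⟩, hne1, hE1K, hB1K⟩
      h6.le) (not_le.2 h6)
  have hM2 : ∀ J : Subgroup G, IsSub D J → J ≠ ⊤ → cj z J = J → M ≤ J → J = M := by
    intro J h1 h2 h3 h4
    by_contra hne
    have hlt : f M < f J := by
      refine add_lt_add_of_le_of_lt (Nat.mul_le_mul_right _ ?_) ?_
      · exact Set.ncard_le_ncard (Set.inter_subset_inter_left _ fun C hC => ⟨hC.1, hC.2.trans h4⟩)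
      · refine lt_of_le_of_ne (Nat.le_of_dvd Nat.card_pos (card_dvd_of_le h4)) fun he => hne ?_
        exact (Subgroup.eq_of_le_of_card_ge h4 he.ge).symm
    exact hMK (h4.trans (hgrow J h1 h2 h3 (hE1.2.trans h4) (hB1.2.trans h4) hlt))
  set I : Subgroup G := sSup (pts D M ∩ pts D K) with hIdef
  have hI : IsSub D I := isSub_sSup D fun _ h => h.1.1
  have hIM : I ≤ M := sSup_le fun _ h => h.1.2
  have hIK : I ≤ K := sSup_le fun _ h => h.2.2
  have hE1I : E1 ∈ pts D I := ⟨hE1.1, le_sSup ⟨hE1, hE1.1, hE1K⟩⟩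
  have hB1I : B1 ∈ pts D I := ⟨hB1.1, le_sSup ⟨hB1, hB1.1, hB1K⟩⟩
  have hIne : I ≠ ⊤ := fun h => hKne (top_le_iff.1 (h.ge.trans hIK))
  have hId := m.radData hI hIne
  have hMd := m.radData hM hMne
  have hIn : (pts D I).Nonempty := ⟨E1, hE1I⟩
  have hMn : (pts D M).Nonempty := ⟨E1, hE1⟩
  have hcl := c2 I hI (m.sub I hI hIne) E1 hE1I
  -- no central elements in the intersection
  have hZI : ∀ w ∈ Zr r I, w = 1 := by
    intro w hw
    by_contra hw1
    have h1 := (m.zr_kmax c2 hI hIn hK hKne hIK hw).1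
    have h2 := (m.zr_kmax c2 hI hIn hM hMne hIM hw).2
    rw [m.hz_eq c2 hK0 hK0n hz1 hz0 hw1 h1] at h2
    exact hMK h2
  have hab : ∀ x ∈ Rd r I, ∀ y ∈ Rd r I, Commute x y := by
    intro x hx y hy
    have h1 : ⁅x, y⁆ ∈ Rd r I := by
      rw [commutatorElement_def]
      exact mul_mem (mul_mem (mul_mem hx hy) (inv_mem hx)) (inv_mem hy)
    exact commutatorElement_eq_one_iff_mul_comm.1 (hZI _ ⟨h1, hcl.1 _ h1 (hcl.2 x hx y hy)⟩)
  have hzI : ∀ x ∈ I, Commute z x := fun x hx => (mem_centralizer_iff.1 hzK.2 x (hIK hx)).symm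
  have hRI1 : Rd r I ≠ ⊥ := by
    intro hb
    have h1 : B1 ≤ E1 := by
      have := hId.sup E1 hE1I
      rw [hb, bot_sup_eq] at this
      rw [this]; exact hB1I.2
    exact hne1 (Subgroup.eq_of_le_of_card_ge h1
      (by rw [m.base.card _ hE1.1, m.base.card _ hB1.1])).symm
  have hRIsol : Group.IsSolvable (Rd r I) := by
    haveI := hId.pg.isNilpotent; infer_instance
  let SK : Subgroup G := Zr r K ⊓ normalizer (M : Set G)
  let SL : Subgroup G := Zr r M ⊓ normalizer (K : Set G)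
  have hzSK : z ∈ SK := ⟨hzK, mem_normalizer_of_cj hzM⟩
  -- case distinction on the centre of `M`
  have hcases : (Zr r M = ⊥ ∧ ∀ g ∈ Zr r K, g ∈ SK) ∨
      (∃ q ∈ SL, q ≠ 1 ∧ Hz D q = M) := by
    rcases eq_or_ne (Zr r M) ⊥ with hb | hb
    · left
      refine ⟨hb, fun g hg => ⟨hg, ?_⟩⟩
      have hJ0 : Jset D (Rd r I) = M := by
        refine hM2 _ (isSub_sSup D fun _ h => h.1) (m.jset_ne_top hRIsol hRI1) ?_ ?_
        · refine cj_Jset m.base ?_
          exact Subgroup.centralizer_le_normalizer _ (mem_centralizer_iff.2 fun x hx =>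
            (hzI x (rd_le r I hx)).symm)
        · refine hM.le_of_pts fun C hC => le_sSup ⟨hC.1, ?_⟩
          refine hC.2.trans ?_
          rw [← hMd.sup E1 hE1]
          refine sup_le (fun x hx => ?_) (hE1I.2.trans hId.norm)
          refine Subgroup.centralizer_le_normalizer _ (mem_centralizer_iff.2 fun y hy => ?_)
          have hy' := m.rd_mono hM hMne hI hIM hy
          have h1 : ⁅x, y⁆ ∈ Zr r M := by
            have h2 : ⁅x, y⁆ ∈ Rd r M := by
              rw [commutatorElement_def]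
              exact mul_mem (mul_mem (mul_mem hx hy') (inv_mem hx)) (inv_mem hy')
            have h3 := c2 M hM (m.sub M hM hMne) E1 hE1
            exact ⟨h2, h3.1 _ h2 (h3.2 x hx y hy')⟩
          rw [hb, Subgroup.mem_bot] at h1
          exact (commutatorElement_eq_one_iff_mul_comm.1 h1).symm
      have hgN : g ∈ normalizer ((Rd r I : Subgroup G) : Set G) :=
        Subgroup.centralizer_le_normalizer _ (mem_centralizer_iff.2 fun x hx =>
          (mem_centralizer_iff.1 hg.2 x (hIK (rd_le r I hx))))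
      have := cj_Jset m.base hgN
      rw [hJ0] at this
      exact mem_normalizer_of_cj this
    · right
      have hzn : zpowers z ≤ normalizer ((Zr r M : Subgroup G) : Set G) :=
        zpowers_le.2 (mem_normalizer_of_cj (by rw [cj_zr, hzM]))
      have hQ : IsPGroup r ↥(Zr r M ⊔ zpowers z : Subgroup G) :=
        IsPGroup.to_sup_of_normal_left' (hMd.pg.to_le inf_le_left)
          ((m.radData hK hKne).pg.to_le (zpowers_le.2 hzK.1)) hzn
      obtain ⟨q, hq, hq1, hfix⟩ := exists_fixed_coset (W := ⊥) hQ bot_le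
        (fun h => hb (le_bot_iff.1 h)) hzn
      rw [Subgroup.mem_bot] at hq1
      have hqz : Commute q z :=
        commutatorElement_eq_one_iff_mul_comm.1 ((Subgroup.mem_bot).1 (hfix z (mem_zpowers z)))
      refine ⟨q, ⟨hq, mem_normalizer_of_cj ?_⟩, hq1, ?_⟩
      · rw [hKdef, cj_Hz m.base, hqz.eq, mul_inv_cancel_right]
      · refine hM2 _ (m.hz_isSub q) (m.hz_ne_top hq1) ?_ (m.le_hz_self hM hq)
        rw [cj_Hz m.base, hqz.symm.eq, mul_inv_cancel_right]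
  have hSc : ∀ g ∈ SK, ∀ q ∈ SL, Commute g q := by
    intro g hg q hq
    have h1 : ⁅g, q⁆ ∈ Zr r K := by
      rw [commutatorElement_def]
      have h2 : q * g⁻¹ * q⁻¹ ∈ Zr r K := by
        have := conj_mem_cj (g := q) (inv_mem hg.1)
        rwa [cj_zr, cj_eq_of_normalizer hq.2] at this
      have := mul_mem hg.1 h2
      simpa [mul_assoc] using this
    have h3 : ⁅g, q⁆ ∈ Zr r M := by
      rw [commutatorElement_def]
      have h2 : g * q * g⁻¹ ∈ Zr r M := by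
        have := conj_mem_cj (g := g) hq.1
        rwa [cj_zr, cj_eq_of_normalizer hg.2] at this
      exact mul_mem h2 (inv_mem hq.1)
    by_contra hne
    have hne1 : ⁅g, q⁆ ≠ 1 := fun h => hne (commutatorElement_eq_one_iff_mul_comm.1 h)
    have h4 := m.le_hz_self hM h3
    rw [m.hz_eq c2 hK0 hK0n hz1 hz0 hne1 h1] at h4
    exact hMK h4
  have hSKr : IsPGroup r SK := ((m.radData hK hKne).pg.to_le inf_le_left).to_le inf_le_left
  have hSLr : IsPGroup r SL := (hMd.pg.to_le inf_le_left).to_le inf_le_left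
  have hSKI : ∀ g ∈ SK, ∀ x ∈ I, Commute g x := fun g hg x hx =>
    (mem_centralizer_iff.1 hg.1.2 x (hIK hx)).symm
  have hSLI : ∀ q ∈ SL, ∀ x ∈ I, Commute q x := fun q hq x hx =>
    (mem_centralizer_iff.1 hq.1.2 x (hIM hx)).symm
  obtain ⟨C1, hC1, hC1K, hC1I, hC1T⟩ := m.side c2 hK hKne hI hIK
    (fun h => hMK (by
      have hKM : K ≤ M := h.trans hIM
      exact ((m.zr_kmax c2 hK0 hK0n hM hMne ((m.le_hz_self hK0 hz0).trans hKM) hz0).2)))
    hE1I hab hZI (fun Q hQ hn => IsPGroup.to_sup_of_normal_left' hQ hSLr hn)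
    (fun q hq => cj_eq_of_normalizer hq.2) hSLI SK inf_le_left
    (fun g hg hc => by
      rcases hcases with ⟨-, h⟩ | ⟨q, hq, hq1, hqM⟩
      · exact h g hg
      · refine ⟨hg, mem_normalizer_of_cj ?_⟩
        rw [← hqM, cj_Hz m.base, (hc q hq).symm.eq, mul_inv_cancel_right])
  obtain ⟨C2, hC2, hC2M, hC2I, hC2T⟩ := m.side c2 hM hMne hI hIM (fun h => hMK (h.trans hIK))
    hE1I hab hZI (fun Q hQ hn => IsPGroup.to_sup_of_normal_left' hQ hSKr hn)
    (fun g hg => cj_eq_of_normalizer hg.2) hSKI SL inf_le_left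
    (fun g hg hc => ⟨hg, mem_normalizer_of_cj (by
      rw [hKdef, cj_Hz m.base, (hc z hzSK).symm.eq, mul_inv_cancel_right])⟩)
  set T := Rd r I ⊔ SK ⊔ SL with hTdef
  rw [sup_right_comm] at hC2T
  -- `T` is an abelian `r`-group
  have hTle : Rd r I ⊔ SK ≤ normalizer (SL : Set G) := sup_le
    (fun x hx => Subgroup.centralizer_le_normalizer _ (mem_centralizer_iff.2 fun q hq =>
      (hSLI q hq x (rd_le r I hx)).eq))
    (fun g hg => Subgroup.centralizer_le_normalizer _ (mem_centralizer_iff.2 fun q hq =>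
      (hSc g hg q hq).symm.eq))
  have hTr : IsPGroup r T := IsPGroup.to_sup_of_normal_right'
    (IsPGroup.to_sup_of_normal_left' hId.pg hSKr
      (fun g hg => Subgroup.centralizer_le_normalizer _ (mem_centralizer_iff.2 fun x hx =>
        (hSKI g hg x (rd_le r I hx)).symm.eq))) hSLr hTle
  have hTsol : Group.IsSolvable T := by haveI := hTr.isNilpotent; infer_instance
  have hT1 : T ≠ ⊥ := fun h => hRI1 (le_bot_iff.1 (h ▸ le_sup_left.trans le_sup_left))
  have hJ : IsSub D (Jset D T) := isSub_sSup D fun _ h => h.1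
  have hIT : I ≤ normalizer (T : Set G) := by
    rw [← hId.sup E1 hE1I]
    refine sup_le (fun x hx => le_normalizer (mem_sup_left (mem_sup_left hx))) ?_
    intro e he
    have hcen : ∀ y : G, Commute e y → e * y * e⁻¹ = y := fun y h => by
      rw [h.eq, mul_inv_cancel_right]
    refine mem_normalizer_of_cj (Subgroup.eq_of_le_of_card_ge ?_ (card_cj e T).ge)
    rw [hTdef, cj, Subgroup.map_sup, Subgroup.map_sup]
    refine sup_le (sup_le ?_ ?_) ?_ <;> rintro _ ⟨x, hx, rfl⟩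
    · exact mem_sup_left (mem_sup_left
        ((Subgroup.mem_normalizer_iff.1 (hId.norm (hE1I.2 he)) x).1 hx))
    · show e * x * e⁻¹ ∈ _
      rw [hcen x (hSKI x hx e (hE1I.2 he)).symm]; exact mem_sup_left (mem_sup_right hx)
    · show e * x * e⁻¹ ∈ _
      rw [hcen x (hSLI x hx e (hE1I.2 he)).symm]; exact mem_sup_right hx
  have hptsJ : ∀ C ∈ D, C ≤ normalizer (T : Set G) → C ≤ Jset D T := fun C hC h => le_sSup ⟨hC, h⟩
  have hlt : f M < f (Jset D T) := by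
    have hsub : pts D M ∩ pts D K ⊂ pts D (Jset D T) ∩ pts D K := by
      refine ⟨fun C hC => ⟨⟨hC.1.1, hptsJ C hC.1.1 ((le_sSup hC).trans hIT)⟩, hC.2⟩, fun h => ?_⟩
      have h1 := h ⟨⟨hC1, hptsJ C1 hC1 hC1T⟩, hC1, hC1K⟩
      exact hC1I (le_sSup h1)
    have h1 : (pts D M ∩ pts D K).ncard + 1 ≤ (pts D (Jset D T) ∩ pts D K).ncard :=
      Set.ncard_lt_ncard hsub (Set.toFinite _)
    have h2 : Nat.card M ≤ Nat.card G := Nat.le_of_dvd Nat.card_pos (card_subgroup_dvd_card M)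
    have h3 := Nat.mul_le_mul_right (Nat.card G + 1) h1
    show _ * _ + _ < _ * _ + _
    rw [add_mul, one_mul] at h3
    omega
  have hJK : Jset D T ≤ K := hgrow _ hJ (m.jset_ne_top hTsol hT1)
    (cj_Jset m.base (le_normalizer (mem_sup_left (mem_sup_right hzSK))))
    (hptsJ _ hE1.1 (hE1I.2.trans hIT)) (hptsJ _ hB1.1 (hB1I.2.trans hIT)) hlt
  exact hC2I (le_sSup ⟨⟨hC2, hC2M⟩, hC2, (hptsJ C2 hC2 hC2T).trans hJK⟩)

end MC

end Cfsg.Agent.H73.Fis
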